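import Cfsg.Agent.Lib.Helper79.CycTI.Cases

/-!
# The structure theorem for the abstract cyclic TI configuration

`X(a,b) = ea a • ra a + eb b • rb b + ec a b • rc a b` with all the `ra a`, `rb b`, `rc a b`
pairwise distinct.
-/

set_option autoImplicit false
set_option linter.unusedSectionVars false
set_option linter.unusedVariables false

namespace Cfsg.Agent.Helper79.CycTI

open Finset

namespace Cfg

variable {A B Ir : Type*} [Fintype Ir] [DecidableEq Ir] (c : Cfg A B Ir)

theorem pm_of_ne (a : A) (b : B) (x : Ir) (h : c.m a b x ≠ 0) : c.m a b x = 1 ∨ c.m a b x = -1 := by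
  rcases c.tri a b x with h0 | h0 | h0
  · exact absurd h0 h
  · exact Or.inl h0
  · exact Or.inr h0

theorem structure_thm [Nonempty A] [Nonempty B] :
    ∃ (ra : A → Ir) (rb : B → Ir) (rc : A → B → Ir) (ea : A → ℤ) (eb : B → ℤ) (ec : A → B → ℤ),
      (∀ a, ea a = 1 ∨ ea a = -1) ∧ (∀ b, eb b = 1 ∨ eb b = -1) ∧
      (∀ a b, ec a b = 1 ∨ ec a b = -1) ∧
      (∀ a b x, c.m a b x = (if x = ra a then ea a else 0) + (if x = rb b then eb b else 0)
          + (if x = rc a b then ec a b else 0)) ∧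
      Function.Injective ra ∧ Function.Injective rb ∧
      (∀ a b a' b', rc a b = rc a' b' → a = a' ∧ b = b') ∧
      (∀ a b, ra a ≠ rb b) ∧ (∀ a a' b, ra a ≠ rc a' b) ∧ (∀ b a b', rb b ≠ rc a b') ∧
      (∀ a, c.p2 (ra a) = ra a) ∧ (∀ b, c.p1 (rb b) = rb b) ∧
      (∀ a, ra (c.iA a) = c.p1 (ra a)) ∧ (∀ b, rb (c.iB b) = c.p2 (rb b)) ∧
      (∀ a b, rc (c.iA a) b = c.p1 (rc a b)) ∧ (∀ a b, rc a (c.iB b) = c.p2 (rc a b)) ∧
      (∀ a, ea (c.iA a) = ea a) ∧ (∀ b, eb (c.iB b) = eb b) ∧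
      (∀ a b, ec (c.iA a) b = ec a b) ∧ (∀ a b, ec a (c.iB b) = ec a b) := by
  classical
  obtain ⟨a₀⟩ := ‹Nonempty A›
  obtain ⟨b₀⟩ := ‹Nonempty B›
  choose ra hra using fun a => c.exists_R2 a b₀
  choose rb hrb using fun b => c.exists_R1 a₀ b
  choose rc hRc using fun a b => c.exists_R0 a b
  have hRa : ∀ a b, c.R2 a b (ra a) := fun a b => c.R2_const a b₀ b (ra a) (hra a)
  have hRb : ∀ a b, c.R1 a b (rb b) := fun a b => c.R1_const a₀ a b (rb b) (hrb b)
  have hva : ∀ a b, c.m a b (ra a) = c.m a b₀ (ra a) := by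
    intro a b
    by_cases hb : b₀ = b
    · rw [hb]
    · exact c.row_eq a hb (ra a) (hRa a b₀).1 (hRa a b).1
  have hvb : ∀ a b, c.m a b (rb b) = c.m a₀ b (rb b) := by
    intro a b
    by_cases ha : a₀ = a
    · rw [ha]
    · exact c.col_eq b ha (rb b) (hRb a₀ b).1 (hRb a b).1
  have hab : ∀ a b, ra a ≠ rb b := by
    intro a b h
    have h2 := hRa a b
    rw [h] at h2
    exact c.not_R1_R2 a b (rb b) (hRb a b) h2
  have hac : ∀ a a' b, ra a ≠ rc a' b := by
    intro a a' b h
    have h2 := (hRa a b).2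
    rw [h] at h2
    exact (hRc a' b).2.2 h2
  have hbc : ∀ b a b', rb b ≠ rc a b' := by
    intro b a b' h
    have h1 := (hRb a b).2
    rw [h] at h1
    exact (hRc a b').2.1 h1
  have hinja : Function.Injective ra := by
    intro a a' h
    by_contra hne
    have h1 : c.m a b₀ (ra a) ≠ 0 := (hRa a b₀).1
    have h2 : c.m a' b₀ (ra a) ≠ 0 := by rw [h]; exact (hRa a' b₀).1
    have := c.col_uniq b₀ hne h1 h2 (hRb a b₀).1 (hRb a' b₀).1
    exact hab a b₀ this
  have hinjb : Function.Injective rb := by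
    intro b b' h
    by_contra hne
    have h1 : c.m a₀ b (rb b) ≠ 0 := (hRb a₀ b).1
    have h2 : c.m a₀ b' (rb b) ≠ 0 := by rw [h]; exact (hRb a₀ b').1
    have := c.row_uniq a₀ hne h1 h2 (hRa a₀ b).1 (hRa a₀ b').1
    exact hab a₀ b this.symm
  have hformula : ∀ a b x, c.m a b x = (if x = ra a then c.m a b₀ (ra a) else 0)
      + (if x = rb b then c.m a₀ b (rb b) else 0) + (if x = rc a b then c.m a b (rc a b) else 0) := by
    intro a b x
    by_cases h1 : x = ra a
    · rw [if_pos h1, if_neg (by rw [h1]; exact hab a b), if_neg (by rw [h1]; exact hac a a b), h1,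
        hva a b]
      ring
    by_cases h2 : x = rb b
    · rw [if_neg h1, if_pos h2, if_neg (by rw [h2]; exact hbc b a b), h2, hvb a b]
      ring
    by_cases h3 : x = rc a b
    · rw [if_neg h1, if_neg h2, if_pos h3, h3]
      ring
    · rw [if_neg h1, if_neg h2, if_neg h3]
      by_contra hne
      rcases (c.mem_supp_iff a b (hRa a b) (hRb a b) (hRc a b) x).mp (by simpa using hne) with
        h | h | h
      · exact h1 h
      · exact h2 h
      · exact h3 h
  have hinjc : ∀ a b a' b', rc a b = rc a' b' → a = a' ∧ b = b' := by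
    intro a b a' b' h
    by_cases ha : a = a'
    · refine ⟨ha, ?_⟩
      by_contra hb
      have h1 : c.m a b (rc a b) ≠ 0 := (hRc a b).1
      have h2 : c.m a b' (rc a b) ≠ 0 := by rw [h, ha]; exact (hRc a' b').1
      have := c.row_uniq a hb h1 h2 (hRa a b).1 (hRa a b').1
      exact hac a a b this.symm
    · exfalso
      by_cases hb : b = b'
      · have h1 : c.m a b (rc a b) ≠ 0 := (hRc a b).1
        have h2 : c.m a' b (rc a b) ≠ 0 := by rw [h, hb]; exact (hRc a' b').1
        have := c.col_uniq b ha h1 h2 (hRb a b).1 (hRb a' b).1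
        exact hbc b a b this.symm
      · have hoff := c.off a a' b b' ha hb
        rw [c.sum_three a b (hRa a b) (hRb a b) (hRc a b) (c.m a' b')] at hoff
        have hz1 : c.m a' b' (ra a) = 0 := by
          by_contra hne
          rcases (c.mem_supp_iff a' b' (hRa a' b') (hRb a' b') (hRc a' b') (ra a)).mp hne with
            h' | h' | h'
          · exact ha (hinja h')
          · exact hab a b' h'
          · exact hac a a' b' h'
        have hz2 : c.m a' b' (rb b) = 0 := by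
          by_contra hne
          rcases (c.mem_supp_iff a' b' (hRa a' b') (hRb a' b') (hRc a' b') (rb b)).mp hne with
            h' | h' | h'
          · exact hab a' b h'.symm
          · exact hb (hinjb h')
          · exact hbc b a' b' h'
        rw [hz1, hz2, mul_zero, mul_zero, zero_add, zero_add] at hoff
        rcases mul_eq_zero.mp hoff with h0 | h0
        · exact (hRc a b).1 h0
        · rw [h] at h0
          exact (hRc a' b').1 h0
  -- equivariance
  have hra_iA : ∀ a, ra (c.iA a) = c.p1 (ra a) := fun a =>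
    c.R2_unique (c.iA a) b₀ (hRa (c.iA a) b₀) (c.R2_iA (hRa a b₀))
  have hrb_iB : ∀ b, rb (c.iB b) = c.p2 (rb b) := fun b =>
    c.R1_unique a₀ (c.iB b) (hRb a₀ (c.iB b)) (c.R1_iB (hRb a₀ b))
  have hrc_iA : ∀ a b, rc (c.iA a) b = c.p1 (rc a b) := fun a b =>
    c.R0_unique (c.iA a) b (hRc (c.iA a) b) (c.R0_iA (hRc a b))
  have hrc_iB : ∀ a b, rc a (c.iB b) = c.p2 (rc a b) := fun a b =>
    c.R0_unique a (c.iB b) (hRc a (c.iB b)) (c.R0_iB (hRc a b))
  refine ⟨ra, rb, rc, fun a => c.m a b₀ (ra a), fun b => c.m a₀ b (rb b),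
    fun a b => c.m a b (rc a b), fun a => c.pm_of_ne a b₀ _ (hRa a b₀).1,
    fun b => c.pm_of_ne a₀ b _ (hRb a₀ b).1, fun a b => c.pm_of_ne a b _ (hRc a b).1,
    hformula, hinja, hinjb, hinjc, hab, hac, hbc, fun a => (hRa a b₀).2, fun b => (hRb a₀ b).2,
    hra_iA, hrb_iB, hrc_iA, hrc_iB, ?_, ?_, ?_, ?_⟩
  · intro a
    show c.m (c.iA a) b₀ (ra (c.iA a)) = c.m a b₀ (ra a)
    rw [hra_iA, c.m_p1]
  · intro b
    show c.m a₀ (c.iB b) (rb (c.iB b)) = c.m a₀ b (rb b)
    rw [hrb_iB, c.m_p2]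
  · intro a b
    show c.m (c.iA a) b (rc (c.iA a) b) = c.m a b (rc a b)
    rw [hrc_iA, c.m_p1]
  · intro a b
    show c.m a (c.iB b) (rc a (c.iB b)) = c.m a b (rc a b)
    rw [hrc_iB, c.m_p2]

end Cfg

end Cfsg.Agent.Helper79.CycTI
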