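import Mathlib
import Cfsg.Agent.Lib.Helper69.PiParts
import Cfsg.Agent.Lib.Helper25.CyclicTwist

/-!
# The partial Galois twist exponent

For `w₁ w₂ ∣ n` coprime there is `k` coprime to `n` with `k² ≡ 1 (mod n)`, `k ≡ -1 (mod w₁)`,
`k ≡ 1 (mod w₂)`.
-/

set_option autoImplicit false
set_option linter.unusedSectionVars false

namespace Cfsg.Agent.Helper79.CycTI

open Cfsg.Agent.Helper69

theorem exists_partial_twist {n w₁ w₂ : ℕ} (hn : n ≠ 0) (h1 : w₁ ∣ n) (h2 : w₂ ∣ n)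
    (hcop : w₁.Coprime w₂) :
    ∃ k : ℕ, k.Coprime n ∧ k * k ≡ 1 [MOD n] ∧ w₁ ∣ k + 1 ∧ k ≡ 1 [MOD w₂] := by
  set π : Set ℕ := {q | q ∣ w₁} with hπ
  set d := piNat π n with hd
  set e := piNat πᶜ n with he
  have hde : d * e = n := piNat_mul_compl π hn
  have hcde : d.Coprime e := piNat_coprime π n
  have hd0 : d ≠ 0 := by
    intro h; rw [h, zero_mul] at hde; exact hn hde.symm
  -- w₁ ∣ d
  have hw1e : w₁.Coprime e := by
    apply Nat.coprime_of_dvd
    intro q hq hq1 hq2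
    exact (prime_mem_of_dvd_piNat πᶜ n q hq hq2) hq1
  have hw1d : w₁ ∣ d := by
    have : w₁ ∣ d * e := hde ▸ h1
    exact hw1e.dvd_of_dvd_mul_right this
  have hw2d : w₂.Coprime d := by
    apply Nat.coprime_of_dvd
    intro q hq hq1 hq2
    have hq3 : q ∣ w₁ := prime_mem_of_dvd_piNat π n q hq hq2
    have := Nat.dvd_gcd hq3 hq1
    rw [hcop] at this
    exact hq.one_lt.ne' (Nat.dvd_one.mp this)
  have hw2e : w₂ ∣ e := by
    have : w₂ ∣ d * e := hde ▸ h2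
    exact hw2d.dvd_of_dvd_mul_left this
  have hk0 : (d - 1).Coprime d := by
    have hpos : 1 ≤ d := Nat.one_le_iff_ne_zero.mpr hd0
    have : (d - 1).Coprime (d - 1 + 1) :=
      Nat.coprime_self_add_right.mpr (Nat.coprime_one_right _)
    rw [Nat.sub_add_cancel hpos] at this
    exact this
  obtain ⟨k, hkn, hkd, hke⟩ := Cfsg.Agent.Helper25.exists_coprime_lift_crt hn
    (Dvd.intro _ hde) (Dvd.intro_left _ hde) hcde (d - 1) hk0
  have hdk : d ∣ k + 1 := by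
    have hpos : 1 ≤ d := Nat.one_le_iff_ne_zero.mpr hd0
    have h3 : k + 1 ≡ d - 1 + 1 [MOD d] := Nat.ModEq.add_right 1 hkd
    rw [Nat.sub_add_cancel hpos] at h3
    have h4 : k + 1 ≡ 0 [MOD d] := h3.trans (by simp [Nat.ModEq])
    exact (Nat.modEq_zero_iff_dvd).mp h4
  refine ⟨k, hkn, ?_, hw1d.trans hdk, hke.of_dvd hw2e⟩
  rw [← hde]
  rw [← Nat.modEq_and_modEq_iff_modEq_mul hcde]
  constructor
  · rw [← ZMod.natCast_eq_natCast_iff]
    have h5 : ((k + 1 : ℕ) : ZMod d) = 0 := (ZMod.natCast_eq_zero_iff _ _).mpr hdk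
    push_cast at h5
    have h6 : (k : ZMod d) = -1 := eq_neg_of_add_eq_zero_left h5
    push_cast
    rw [h6]; ring
  · have := hke.mul hke
    simpa using this

variable {G : Type*} [Group G] [Finite G]

theorem pow_pow_self_of_modEq {k : ℕ} (hk : k * k ≡ 1 [MOD Nat.card G]) (g : G) :
    (g ^ k) ^ k = g := by
  rw [← pow_mul]
  have h1 : orderOf g ∣ Nat.card G := orderOf_dvd_natCard g
  have h2 : k * k ≡ 1 [MOD orderOf g] := hk.of_dvd h1
  have := (pow_eq_pow_iff_modEq (x := g)).mpr h2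
  rw [this, pow_one]

theorem pow_eq_inv_of_dvd (H : Subgroup G) {k : ℕ} (hk : Nat.card H ∣ k + 1) {g : G} (hg : g ∈ H) :
    g ^ k = g⁻¹ := by
  have h1 : g ^ Nat.card H = 1 := Cfsg.Agent.Helper25.pow_card_eq_one_of_mem H hg
  obtain ⟨c, hc⟩ := hk
  have h2 : g ^ (k + 1) = 1 := by rw [hc, pow_mul, h1, one_pow]
  rw [pow_succ] at h2
  exact eq_inv_of_mul_eq_one_left h2

theorem pow_eq_self_of_modEq (H : Subgroup G) {k : ℕ} (hk : k ≡ 1 [MOD Nat.card H]) {g : G}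
    (hg : g ∈ H) : g ^ k = g := by
  have h1 : g ^ Nat.card H = 1 := Cfsg.Agent.Helper25.pow_card_eq_one_of_mem H hg
  have h2 : orderOf g ∣ Nat.card H := orderOf_dvd_of_pow_eq_one h1
  have h3 : k ≡ 1 [MOD orderOf g] := hk.of_dvd h2
  have := (pow_eq_pow_iff_modEq (x := g)).mpr h3
  rw [this, pow_one]

end Cfsg.Agent.Helper79.CycTI
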