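import Cfsg.Agent.Lib.Helper79.CycTI.Three

/-!
# The two impossible cases and constancy of the row/column constituents
-/

set_option autoImplicit false
set_option linter.unusedSectionVars false
set_option linter.unusedVariables false

namespace Cfsg.Agent.Helper79.CycTI

open Finset

namespace Cfg

variable {A B Ir : Type*} [Fintype Ir] [DecidableEq Ir] (c : Cfg A B Ir)

theorem row_uniq (a : A) {b b' : B} (h : b ≠ b') {x y : Ir} (hx1 : c.m a b x ≠ 0)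
    (hx2 : c.m a b' x ≠ 0) (hy1 : c.m a b y ≠ 0) (hy2 : c.m a b' y ≠ 0) : x = y := by
  obtain ⟨z, _, hu⟩ := c.row_common a h
  rw [hu x ⟨hx1, hx2⟩, hu y ⟨hy1, hy2⟩]

theorem col_uniq {a a' : A} (b : B) (h : a ≠ a') {x y : Ir} (hx1 : c.m a b x ≠ 0)
    (hx2 : c.m a' b x ≠ 0) (hy1 : c.m a b y ≠ 0) (hy2 : c.m a' b y ≠ 0) : x = y := by
  obtain ⟨z, _, hu⟩ := c.col_common b h
  rw [hu x ⟨hx1, hx2⟩, hu y ⟨hy1, hy2⟩]

/-- a constituent common to `X(a,b)` and `X(a, iB b)` is fixed by `p2` -/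
theorem R2_of_common (a : A) (b : B) {x : Ir} (h1 : c.m a b x ≠ 0) (h2 : c.m a (c.iB b) x ≠ 0) :
    c.R2 a b x := by
  obtain ⟨y, hy⟩ := c.exists_R2 a b
  have hy2 : c.m a (c.iB b) y ≠ 0 := by rw [c.R2_other a b y hy]; exact hy.1
  have : x = y := c.row_uniq a (c.iB_ne b).symm h1 h2 hy.1 hy2
  rw [this]; exact hy

/-- a constituent common to `X(a,b)` and `X(iA a, b)` is fixed by `p1` -/
theorem R1_of_common (a : A) (b : B) {x : Ir} (h1 : c.m a b x ≠ 0) (h2 : c.m (c.iA a) b x ≠ 0) :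
    c.R1 a b x := c.transpose.R2_of_common b a h1 h2

theorem iB_ne_of_ne {b b' : B} (hb' : b' ≠ c.iB b) : b ≠ c.iB b' := by
  intro h
  apply hb'
  rw [h, c.iB_inv]

theorem case1_false (a : A) {b b' : B} (hb : b' ≠ b) (hb' : b' ≠ c.iB b) (r : Ir)
    (hr1 : c.m a b r ≠ 0) (hr2 : c.m a b' r ≠ 0) (hp : c.p1 r = r) : False := by
  have hR1b : c.R1 a b r := ⟨hr1, hp⟩
  have hR1b' : c.R1 a b' r := ⟨hr2, hp⟩
  have hbb'' : b ≠ c.iB b' := c.iB_ne_of_ne hb'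
  obtain ⟨cc, ⟨hc1, hc2⟩, -⟩ := c.row_common a hbb''
  -- cc is not fixed by p1
  have hcp1 : c.p1 cc ≠ cc := by
    intro hfix
    have : cc = r := c.R1_unique a b ⟨hc1, hfix⟩ hR1b
    rw [this] at hc2
    exact c.not_R1_R2 a b' r hR1b' (c.R2_of_common a b' hr2 hc2)
  -- cc is not fixed by p2
  have hcp2 : c.p2 cc ≠ cc := by
    intro hfix
    have h3 : c.m a b' cc ≠ 0 := by
      have := c.m_p2 a (c.iB b') cc
      rw [c.iB_inv, hfix] at this
      rw [this]; exact hc2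
    have : cc = r := c.row_uniq a hb.symm hc1 h3 hr1 hr2
    rw [this] at hfix
    exact c.not_R1_R2 a b r hR1b ⟨hr1, hfix⟩
  have hR0b : c.R0 a b cc := ⟨hc1, hcp1, hcp2⟩
  have hR0b'' : c.R0 a (c.iB b') cc := ⟨hc2, hcp1, hcp2⟩
  -- signs
  have hs1 : c.m a b' r = c.m a b r := c.row_eq a hb.symm r hr1 hr2
  have hs2 : c.m (c.iA a) b' r = c.m a b' r := c.R1_other a b' r hR1b'
  obtain ⟨t, ⟨ht1, ht2⟩, -⟩ := c.off_unique (c.iA_ne a).symm hb.symm r hr1 (by rw [hs2, hs1])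
  have htr : t ≠ r := by
    intro h
    rw [h, hs2, hs1] at ht2
    apply hr1
    linarith
  obtain ⟨ρ, hρ⟩ := c.exists_R2 a b
  rcases (c.mem_supp_iff a b hρ hR1b hR0b t).mp ht1 with h | h | h
  · -- t = ρ
    rw [h] at ht1 ht2
    have hρ' : c.R2 (c.iA a) b' ρ := ⟨by rw [ht2]; exact neg_ne_zero.mpr ht1, hρ.2⟩
    have hρ'' : c.R2 (c.iA a) (c.iB b') ρ := c.R2_iB hρ'
    have hκ'' : c.R1 (c.iA a) (c.iB b') (c.p2 r) := c.R1_iB (c.R1_iA hR1b')
    have hγ'' : c.R0 (c.iA a) (c.iB b') (c.p1 cc) := c.R0_iA hR0b''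
    have hsum := c.sum_three (c.iA a) (c.iB b') hρ'' hκ'' hγ'' (c.m a b)
    rw [c.off (c.iA a) a (c.iB b') b (c.iA_ne a) hbb''.symm] at hsum
    have hz1 : c.m a b (c.p2 r) = 0 := by
      by_contra hne
      rw [c.m_p2'] at hne
      have h1 : c.R1 a (c.iB b) r := ⟨hne, hp⟩
      have h2 : c.R1 a (c.iB b) (c.p2 r) := c.R1_iB hR1b
      have h3 : r = c.p2 r := c.R1_unique a (c.iB b) h1 h2
      exact c.not_R1_R2 a b r hR1b ⟨hr1, h3.symm⟩
    have hz2 : c.m a b (c.p1 cc) = 0 := by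
      by_contra hne
      rw [c.m_p1'] at hne
      exact hcp1 (c.R1_of_common a b hc1 hne).2
    rw [hz1, hz2, mul_zero, mul_zero, add_zero, add_zero] at hsum
    rcases mul_eq_zero.mp hsum.symm with h0 | h0
    · exact hρ''.1 h0
    · exact hρ.1 h0
  · exact htr h
  · -- t = cc
    rw [h] at ht1 ht2
    have hR0' : c.R0 (c.iA a) b' cc := ⟨by rw [ht2]; exact neg_ne_zero.mpr ht1, hcp1, hcp2⟩
    have h1 : c.R0 a b' (c.p1 cc) := by
      have := c.R0_iA hR0'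
      rwa [c.iA_inv] at this
    have h2 : c.R0 a (c.iB b') (c.p2 (c.p1 cc)) := c.R0_iB h1
    have h3 : c.p2 (c.p1 cc) = cc := c.R0_unique a (c.iB b') h2 hR0b''
    have h4 : c.m a (c.iB b') (c.p2 (c.p1 cc)) = c.m (c.iA a) b' cc := by
      rw [c.m_p2, c.m_p1']
    have h5 : c.m a (c.iB b') cc = c.m a b cc := c.row_eq a hbb'' cc hc1 hc2
    rw [h3, h5, ht2] at h4
    apply ht1
    linarith

theorem case2_false (a : A) {b b' : B} (hb : b' ≠ b) (hb' : b' ≠ c.iB b) (r : Ir)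
    (hr1 : c.m a b r ≠ 0) (hr2 : c.m a b' r ≠ 0) (hp1 : c.p1 r ≠ r) (hp2 : c.p2 r ≠ r) :
    False := by
  have hR0b : c.R0 a b r := ⟨hr1, hp1, hp2⟩
  have hR0b' : c.R0 a b' r := ⟨hr2, hp1, hp2⟩
  have hbb'' : b ≠ c.iB b' := c.iB_ne_of_ne hb'
  obtain ⟨cc, ⟨hc1, hc2⟩, -⟩ := c.row_common a hbb''
  obtain ⟨ρ, hρ⟩ := c.exists_R2 a b
  obtain ⟨κ, hκ⟩ := c.exists_R1 a b
  have hccκ : cc = κ := by
    rcases (c.mem_supp_iff a b hρ hκ hR0b cc).mp hc1 with h | h | h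
    · exfalso
      rw [h] at hc2
      have h3 : c.m a b' ρ ≠ 0 := by
        have := c.m_p2 a (c.iB b') ρ
        rw [c.iB_inv, hρ.2] at this
        rw [this]; exact hc2
      have : ρ = r := c.row_uniq a hb.symm hρ.1 h3 hr1 hr2
      rw [this] at hρ
      exact hp2 hρ.2
    · exact h
    · exfalso
      rw [h] at hc2
      exact hp2 (c.R2_of_common a b' hr2 hc2).2
  rw [hccκ] at hc2
  have hκ'' : c.R1 a (c.iB b') κ := ⟨hc2, hκ.2⟩
  have hv1 : c.m a (c.iB b') κ = c.m a b κ := c.row_eq a hbb'' κ hκ.1 hc2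
  have hv2 : c.m (c.iA a) (c.iB b') κ = c.m a (c.iB b') κ := c.R1_other a (c.iB b') κ hκ''
  obtain ⟨t, ⟨ht1, ht2⟩, -⟩ := c.off_unique (c.iA_ne a).symm hbb'' κ hκ.1 (by rw [hv2, hv1])
  have htκ : t ≠ κ := by
    intro h
    rw [h, hv2, hv1] at ht2
    apply hκ.1
    linarith
  rcases (c.mem_supp_iff a b hρ hκ hR0b t).mp ht1 with h | h | h
  · -- t = ρ
    rw [h] at ht1 ht2
    have hρ'' : c.R2 (c.iA a) (c.iB b') ρ := ⟨by rw [ht2]; exact neg_ne_zero.mpr ht1, hρ.2⟩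
    have hρ' : c.R2 (c.iA a) b' ρ := by
      have := c.R2_iB hρ''
      rwa [c.iB_inv] at this
    have hvρ : c.m (c.iA a) b' ρ = c.m (c.iA a) (c.iB b') ρ := by
      have := c.R2_other (c.iA a) (c.iB b') ρ hρ''
      rwa [c.iB_inv] at this
    have hu : c.R2 a b' (c.p1 ρ) := by
      have := c.R2_iA hρ'
      rwa [c.iA_inv] at this
    have hvu : c.m a b' (c.p1 ρ) = - c.m a b ρ := by
      rw [c.m_p1', hvρ, ht2]
    have hk' : c.R1 a b' (c.p2 κ) := by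
      have := c.R1_iB hκ''
      rwa [c.iB_inv] at this
    have hvk : c.m a b' (c.p2 κ) = c.m a b κ := by
      rw [c.m_p2', hv1]
    have hvr : c.m a b' r = c.m a b r := c.row_eq a hb.symm r hr1 hr2
    have hd := c.degsum a b a b'
    rw [c.sum_three a b hρ hκ hR0b c.deg, c.sum_three a b' hu hk' hR0b' c.deg, hvu, hvk, hvr,
      c.deg_p1, c.deg_p2] at hd
    have : c.m a b ρ * c.deg ρ = 0 := by linarith
    rcases mul_eq_zero.mp this with h0 | h0
    · exact hρ.1 h0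
    · exact c.deg_ne ρ h0
  · exact htκ h
  · -- t = r
    rw [h] at ht1 ht2
    have hR0'' : c.R0 (c.iA a) (c.iB b') r := ⟨by rw [ht2]; exact neg_ne_zero.mpr ht1, hp1, hp2⟩
    have h1 : c.R0 a (c.iB b') (c.p1 r) := by
      have := c.R0_iA hR0''
      rwa [c.iA_inv] at this
    have h2 : c.R0 a b' (c.p2 (c.p1 r)) := by
      have := c.R0_iB h1
      rwa [c.iB_inv] at this
    have h3 : c.p2 (c.p1 r) = r := c.R0_unique a b' h2 hR0b'
    have h4 : c.m a b' (c.p2 (c.p1 r)) = c.m (c.iA a) (c.iB b') r := by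
      rw [c.m_p2', c.m_p1']
    have h5 : c.m a b' r = c.m a b r := c.row_eq a hb.symm r hr1 hr2
    rw [h3, h5, ht2] at h4
    apply ht1
    linarith

/-- the `p2`-fixed constituent of `X(a,b)` does not depend on `b` -/
theorem R2_const (a : A) (b b' : B) (x : Ir) (h : c.R2 a b x) : c.R2 a b' x := by
  by_cases hb : b' = b
  · rw [hb]; exact h
  by_cases hb' : b' = c.iB b
  · rw [hb']; exact c.R2_iB h
  obtain ⟨r, ⟨hr1, hr2⟩, -⟩ := c.row_common a (Ne.symm hb)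
  rcases c.trichotomy a b r hr1 with h2 | h1 | h0
  · have : r = x := c.R2_unique a b h2 h
    rw [← this]
    exact ⟨hr2, h2.2⟩
  · exact (c.case1_false a hb hb' r hr1 hr2 h1.2).elim
  · exact (c.case2_false a hb hb' r hr1 hr2 h0.2.1 h0.2.2).elim

/-- the `p1`-fixed constituent of `X(a,b)` does not depend on `a` -/
theorem R1_const (a a' : A) (b : B) (x : Ir) (h : c.R1 a b x) : c.R1 a' b x :=
  c.transpose.R2_const b a a' x h

end Cfg

end Cfsg.Agent.Helper79.CycTI
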