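import Cfsg.Agent.Lib.Helper79.CycTI.Pair

/-!
# Abstract configuration for the cyclic TI theorem

`A`, `B` index the nontrivial characters of `W₁`, `W₂`; `Ir` indexes the irreducible characters of `G`;
`m a b x` is the multiplicity of `x` in `X(a,b) = Ind((1-φ_a)(1-ψ_b)) - 1`.
`iA`, `iB` are inversion, `p1`, `p2` the partial Galois twists.
-/

set_option autoImplicit false
set_option linter.unusedSectionVars false

namespace Cfsg.Agent.Helper79.CycTI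

open Finset

structure Cfg (A B Ir : Type*) [Fintype Ir] where
  m : A → B → Ir → ℤ
  iA : A → A
  iB : B → B
  p1 : Ir → Ir
  p2 : Ir → Ir
  deg : Ir → ℤ
  iA_inv : ∀ a, iA (iA a) = a
  iA_ne : ∀ a, iA a ≠ a
  iB_inv : ∀ b, iB (iB b) = b
  iB_ne : ∀ b, iB b ≠ b
  p1_inv : ∀ x, p1 (p1 x) = x
  p2_inv : ∀ x, p2 (p2 x) = x
  p_comm : ∀ x, p1 (p2 x) = p2 (p1 x)
  deg_ne : ∀ x, deg x ≠ 0
  deg_p1 : ∀ x, deg (p1 x) = deg x
  deg_p2 : ∀ x, deg (p2 x) = deg x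
  m_p1 : ∀ a b x, m (iA a) b (p1 x) = m a b x
  m_p2 : ∀ a b x, m a (iB b) (p2 x) = m a b x
  norm : ∀ a b, ∑ x, m a b x ^ 2 = 3
  row : ∀ a b b', b ≠ b' → ∑ x, m a b x * m a b' x = 1
  col : ∀ a a' b, a ≠ a' → ∑ x, m a b x * m a' b x = 1
  off : ∀ a a' b b', a ≠ a' → b ≠ b' → ∑ x, m a b x * m a' b' x = 0
  degsum : ∀ a b a' b', ∑ x, m a b x * deg x = ∑ x, m a' b' x * deg x

namespace Cfg

variable {A B Ir : Type*} [Fintype Ir] (c : Cfg A B Ir)

/-- transposed configuration -/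
def transpose : Cfg B A Ir where
  m := fun b a x => c.m a b x
  iA := c.iB
  iB := c.iA
  p1 := c.p2
  p2 := c.p1
  deg := c.deg
  iA_inv := c.iB_inv
  iA_ne := c.iB_ne
  iB_inv := c.iA_inv
  iB_ne := c.iA_ne
  p1_inv := c.p2_inv
  p2_inv := c.p1_inv
  p_comm := fun x => (c.p_comm x).symm
  deg_ne := c.deg_ne
  deg_p1 := c.deg_p2
  deg_p2 := c.deg_p1
  m_p1 := fun b a x => c.m_p2 a b x
  m_p2 := fun b a x => c.m_p1 a b x
  norm := fun b a => c.norm a b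
  row := fun b a a' h => c.col a a' b h
  col := fun b b' a h => c.row a b b' h
  off := fun b b' a a' hb ha => c.off a a' b b' ha hb
  degsum := fun b a b' a' => c.degsum a b a' b'

theorem tri (a : A) (b : B) (x : Ir) : c.m a b x = 0 ∨ c.m a b x = 1 ∨ c.m a b x = -1 :=
  tri_of_sq_sum (c.m a b) (c.norm a b) x

theorem p1_inj {x y : Ir} (h : c.p1 x = c.p1 y) : x = y := by
  rw [← c.p1_inv x, ← c.p1_inv y, h]

theorem p2_inj {x y : Ir} (h : c.p2 x = c.p2 y) : x = y := by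
  rw [← c.p2_inv x, ← c.p2_inv y, h]

theorem m_p1' (a : A) (b : B) (x : Ir) : c.m a b (c.p1 x) = c.m (c.iA a) b x := by
  have := c.m_p1 (c.iA a) b x
  rwa [c.iA_inv] at this

theorem m_p2' (a : A) (b : B) (x : Ir) : c.m a b (c.p2 x) = c.m a (c.iB b) x := by
  have := c.m_p2 a (c.iB b) x
  rwa [c.iB_inv] at this

variable [DecidableEq Ir]

theorem row_common (a : A) {b b' : B} (h : b ≠ b') : ∃! x, c.m a b x ≠ 0 ∧ c.m a b' x ≠ 0 :=
  aligned_common (c.m a b) (c.m a b') c.deg (c.norm a b) (c.norm a b') (c.row a b b' h)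
    (c.degsum a b a b') c.deg_ne

theorem row_eq (a : A) {b b' : B} (h : b ≠ b') (x : Ir) (h1 : c.m a b x ≠ 0)
    (h2 : c.m a b' x ≠ 0) : c.m a b' x = c.m a b x :=
  aligned_eq (c.m a b) (c.m a b') c.deg (c.norm a b) (c.norm a b') (c.row a b b' h)
    (c.degsum a b a b') c.deg_ne x h1 h2

theorem col_common {a a' : A} (b : B) (h : a ≠ a') : ∃! x, c.m a b x ≠ 0 ∧ c.m a' b x ≠ 0 :=
  aligned_common (c.m a b) (c.m a' b) c.deg (c.norm a b) (c.norm a' b) (c.col a a' b h)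
    (c.degsum a b a' b) c.deg_ne

theorem col_eq {a a' : A} (b : B) (h : a ≠ a') (x : Ir) (h1 : c.m a b x ≠ 0)
    (h2 : c.m a' b x ≠ 0) : c.m a' b x = c.m a b x :=
  aligned_eq (c.m a b) (c.m a' b) c.deg (c.norm a b) (c.norm a' b) (c.col a a' b h)
    (c.degsum a b a' b) c.deg_ne x h1 h2

theorem off_unique {a a' : A} {b b' : B} (ha : a ≠ a') (hb : b ≠ b') (x₀ : Ir)
    (hx₀ : c.m a b x₀ ≠ 0) (hsame : c.m a' b' x₀ = c.m a b x₀) :
    ∃! t, c.m a b t ≠ 0 ∧ c.m a' b' t = - c.m a b t :=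
  off_opp (c.m a b) (c.m a' b') (c.norm a b) (c.norm a' b') (c.off a a' b b' ha hb) x₀ hx₀ hsame

/-- `x` is the constituent of `X(a,b)` fixed by `p2` (the "row" constituent). -/
def R2 (a : A) (b : B) (x : Ir) : Prop := c.m a b x ≠ 0 ∧ c.p2 x = x
/-- `x` is the constituent of `X(a,b)` fixed by `p1` (the "column" constituent). -/
def R1 (a : A) (b : B) (x : Ir) : Prop := c.m a b x ≠ 0 ∧ c.p1 x = x
/-- `x` is a constituent of `X(a,b)` fixed by neither twist. -/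
def R0 (a : A) (b : B) (x : Ir) : Prop := c.m a b x ≠ 0 ∧ c.p1 x ≠ x ∧ c.p2 x ≠ x

theorem trichotomy (a : A) (b : B) (x : Ir) (h : c.m a b x ≠ 0) :
    c.R2 a b x ∨ c.R1 a b x ∨ c.R0 a b x := by
  by_cases h2 : c.p2 x = x
  · exact Or.inl ⟨h, h2⟩
  · by_cases h1 : c.p1 x = x
    · exact Or.inr (Or.inl ⟨h, h1⟩)
    · exact Or.inr (Or.inr ⟨h, h1, h2⟩)

theorem exists_R2 (a : A) (b : B) : ∃ x, c.R2 a b x := by
  obtain ⟨x, ⟨hx1, hx2⟩, huniq⟩ := c.row_common a (c.iB_ne b).symm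
  refine ⟨x, hx1, ?_⟩
  apply huniq
  constructor
  · rw [c.m_p2']; exact hx2
  · rw [c.m_p2]; exact hx1

theorem R2_other (a : A) (b : B) (x : Ir) (h : c.R2 a b x) : c.m a (c.iB b) x = c.m a b x := by
  have := c.m_p2 a b x
  rwa [h.2] at this

theorem R2_unique (a : A) (b : B) {x y : Ir} (hx : c.R2 a b x) (hy : c.R2 a b y) : x = y := by
  obtain ⟨z, _, huniq⟩ := c.row_common a (c.iB_ne b).symm
  have h1 : x = z := huniq x ⟨hx.1, by rw [c.R2_other a b x hx]; exact hx.1⟩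
  have h2 : y = z := huniq y ⟨hy.1, by rw [c.R2_other a b y hy]; exact hy.1⟩
  rw [h1, h2]

theorem exists_R1 (a : A) (b : B) : ∃ x, c.R1 a b x := c.transpose.exists_R2 b a

theorem R1_unique (a : A) (b : B) {x y : Ir} (hx : c.R1 a b x) (hy : c.R1 a b y) : x = y :=
  c.transpose.R2_unique b a hx hy

theorem R1_other (a : A) (b : B) (x : Ir) (h : c.R1 a b x) : c.m (c.iA a) b x = c.m a b x :=
  c.transpose.R2_other b a x h

/-- equivariance of the types -/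
theorem R2_iB {a : A} {b : B} {x : Ir} (h : c.R2 a b x) : c.R2 a (c.iB b) x :=
  ⟨by rw [c.R2_other a b x h]; exact h.1, h.2⟩

theorem R2_iA {a : A} {b : B} {x : Ir} (h : c.R2 a b x) : c.R2 (c.iA a) b (c.p1 x) :=
  ⟨by rw [c.m_p1]; exact h.1, by rw [← c.p_comm, h.2]⟩

theorem R1_iA {a : A} {b : B} {x : Ir} (h : c.R1 a b x) : c.R1 (c.iA a) b x :=
  ⟨by rw [c.R1_other a b x h]; exact h.1, h.2⟩

theorem R1_iB {a : A} {b : B} {x : Ir} (h : c.R1 a b x) : c.R1 a (c.iB b) (c.p2 x) :=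
  ⟨by rw [c.m_p2]; exact h.1, by rw [c.p_comm, h.2]⟩

theorem R0_iA {a : A} {b : B} {x : Ir} (h : c.R0 a b x) : c.R0 (c.iA a) b (c.p1 x) :=
  ⟨by rw [c.m_p1]; exact h.1, fun h' => h.2.1 (c.p1_inj h'),
    fun h' => h.2.2 (c.p1_inj (by rw [c.p_comm]; exact h'))⟩

theorem R0_iB {a : A} {b : B} {x : Ir} (h : c.R0 a b x) : c.R0 a (c.iB b) (c.p2 x) :=
  ⟨by rw [c.m_p2]; exact h.1, fun h' => h.2.1 (c.p2_inj (by rw [← c.p_comm]; exact h')),
    fun h' => h.2.2 (c.p2_inj h')⟩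

/-- no constituent is fixed by both twists -/
theorem not_R1_R2 (a : A) (b : B) (x : Ir) (h1 : c.R1 a b x) (h2 : c.R2 a b x) : False := by
  -- positions (iA a, b) and (a, iB b)
  have hv1 : c.m (c.iA a) b x = c.m a b x := c.R1_other a b x h1
  have hv2 : c.m a (c.iB b) x = c.m a b x := c.R2_other a b x h2
  have hne : c.m (c.iA a) b x ≠ 0 := by rw [hv1]; exact h1.1
  obtain ⟨t, ⟨ht1, ht2⟩, huniq⟩ := c.off_unique (c.iA_ne a) (c.iB_ne b).symm x hne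
    (by rw [hv1, hv2])
  -- p1 (p2 t) is another opposite pair
  have h3 : c.m (c.iA a) b (c.p1 (c.p2 t)) = c.m a (c.iB b) t := by
    rw [c.m_p1, c.m_p2']
  have h4 : c.m a (c.iB b) (c.p1 (c.p2 t)) = c.m (c.iA a) b t := by
    rw [c.p_comm, c.m_p2, c.m_p1']
  have h5 : c.p1 (c.p2 t) = t := by
    apply huniq
    constructor
    · rw [h3, ht2]; exact neg_ne_zero.mpr ht1
    · rw [h4, h3, ht2, neg_neg]
  rw [h5] at h3
  rw [h3] at ht1
  rw [h3] at ht2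
  have : c.m a (c.iB b) t = 0 := by linarith
  exact ht1 this

end Cfg

end Cfsg.Agent.Helper79.CycTI
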