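import Cfsg.Agent.Lib.Helper79.CycTI.Struct
import Cfsg.Agent.Lib.Helper79.CycTI.Arith
import Cfsg.Agent.Lib.Helper79.Linear
import Cfsg.Agent.Lib.Helper79.LinearChars
import Cfsg.Agent.Lib.Helper79.CharBasic
import Cfsg.Agent.Lib.Helper25.CyclicTwist
import Cfsg.Agent.Lib.Helper25.CyclicTI2
import Cfsg.Agent.Lib.Helper25.TIInd
import Cfsg.Agent.Lib.Helper25.DualProd
import Cfsg.Agent.Lib.Helper3.CharArtin
import Cfsg.Agent.S1505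

/-!
# The cyclic TI configuration attached to a self-normalizing cyclic subgroup

`X(φ,ψ) = Ind((1-φ)(1-ψ)) - 1`, its integer coefficient vector, Gram matrix, degree and twists.
-/

set_option autoImplicit false
set_option linter.unusedSectionVars false
set_option linter.unusedVariables false

namespace Cfsg.Agent.Helper79.CycTI

open Cfsg Cfsg.Agent.Helper25
open scoped ComplexConjugate

universe u
variable {G : Type u} [Group G] [Fintype G] (W₁ W₂ : Subgroup G)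

/-- nontrivial linear characters of `W₁ ⊔ W₂` trivial on `W₂` -/
def AT : Type u :=
  {φ : ↥(W₁ ⊔ W₂) →* ℂˣ // φ ≠ 1 ∧ ∀ w : ↥(W₁ ⊔ W₂), (w : G) ∈ W₂ → φ w = 1}

/-- nontrivial linear characters of `W₁ ⊔ W₂` trivial on `W₁` -/
def BT : Type u :=
  {ψ : ↥(W₁ ⊔ W₂) →* ℂˣ // ψ ≠ 1 ∧ ∀ w : ↥(W₁ ⊔ W₂), (w : G) ∈ W₁ → ψ w = 1}

/-- `X(φ,ψ) = Ind((1-φ)(1-ψ)) - 1` -/
noncomputable def XF (φ ψ : ↥(W₁ ⊔ W₂) →* ℂˣ) : G → ℂ :=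
  fun g => indFun (W₁ ⊔ W₂) (alphaFun W₁ W₂ φ ψ) g - 1

theorem isCharacter_cf {A : Type u} [Group A] (ω : A →* ℂˣ) : IsCharacter A (cf ω) :=
  Cfsg.Agent.Helper81.isCharacter_of_mul (by simp [cf]) (by intro g h; simp [cf, map_mul])

theorem isCharacter_one_fun {A : Type u} [Group A] : IsCharacter A (fun _ : A => (1 : ℂ)) :=
  Cfsg.Agent.Helper81.isCharacter_of_mul rfl (by intro g h; simp)

theorem isGeneralizedCharacter_XF (φ ψ : ↥(W₁ ⊔ W₂) →* ℂˣ) :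
    IsGeneralizedCharacter G (XF W₁ W₂ φ ψ) := by
  have : Fintype ↥(W₁ ⊔ W₂) := Fintype.ofFinite _
  have h1 : IsGeneralizedCharacter ↥(W₁ ⊔ W₂) (alphaFun W₁ W₂ φ ψ) := by
    rw [alphaFun_eq_cf]
    exact Cfsg.Agent.Helper82.isGeneralizedCharacter_add
      (Cfsg.Agent.Helper82.isGeneralizedCharacter_sub
        (Cfsg.Agent.Helper82.isGeneralizedCharacter_sub
          (Cfsg.Agent.Helper82.isGeneralizedCharacter_of_isCharacter (isCharacter_cf 1))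
          (Cfsg.Agent.Helper82.isGeneralizedCharacter_of_isCharacter (isCharacter_cf φ)))
        (Cfsg.Agent.Helper82.isGeneralizedCharacter_of_isCharacter (isCharacter_cf ψ)))
      (Cfsg.Agent.Helper82.isGeneralizedCharacter_of_isCharacter (isCharacter_cf (φ * ψ)))
  have h2 := Cfsg.Agent.Helper3.isGenChar_indFun (W₁ ⊔ W₂) h1
  have h3 : XF W₁ W₂ φ ψ = indFun (W₁ ⊔ W₂) (alphaFun W₁ W₂ φ ψ) - (fun _ : G => (1 : ℂ)) := by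
    funext g; rfl
  rw [h3]
  exact Cfsg.Agent.Helper82.isGeneralizedCharacter_sub h2
    (Cfsg.Agent.Helper82.isGeneralizedCharacter_of_isCharacter isCharacter_one_fun)

section coef
variable [Fintype (IrrCharacter G)]

theorem exists_coef (φ ψ : ↥(W₁ ⊔ W₂) →* ℂˣ) :
    ∃ z : IrrCharacter G → ℤ, XF W₁ W₂ φ ψ = ∑ χ, (z χ : ℂ) • (χ : G → ℂ) :=
  Cfsg.Agent.Helper82.genChar_int_decomp (isGeneralizedCharacter_XF W₁ W₂ φ ψ)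

/-- the integer coefficient vector of `X(φ,ψ)` -/
noncomputable def coef (φ ψ : ↥(W₁ ⊔ W₂) →* ℂˣ) : IrrCharacter G → ℤ :=
  Classical.choose (exists_coef W₁ W₂ φ ψ)

theorem XF_eq (φ ψ : ↥(W₁ ⊔ W₂) →* ℂˣ) :
    XF W₁ W₂ φ ψ = ∑ χ, (coef W₁ W₂ φ ψ χ : ℂ) • (χ : G → ℂ) :=
  Classical.choose_spec (exists_coef W₁ W₂ φ ψ)

theorem classInner_XF_irr (φ ψ : ↥(W₁ ⊔ W₂) →* ℂˣ) (ξ : IrrCharacter G) :
    classInner (XF W₁ W₂ φ ψ) (ξ : G → ℂ) = (coef W₁ W₂ φ ψ ξ : ℂ) := by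
  have h := XF_eq W₁ W₂ φ ψ
  calc classInner (XF W₁ W₂ φ ψ) (ξ : G → ℂ)
      = classInner (∑ χ, (coef W₁ W₂ φ ψ χ : ℂ) • (χ : G → ℂ)) (ξ : G → ℂ) := by rw [← h]
    _ = _ := Cfsg.Agent.Helper81.classInner_nat_decomp (fun χ => (coef W₁ W₂ φ ψ χ : ℂ)) ξ

theorem classInner_XF_XF (φ ψ φ' ψ' : ↥(W₁ ⊔ W₂) →* ℂˣ) :
    classInner (XF W₁ W₂ φ ψ) (XF W₁ W₂ φ' ψ') =
      ((∑ χ, coef W₁ W₂ φ ψ χ * coef W₁ W₂ φ' ψ' χ : ℤ) : ℂ) := by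
  have h1 := XF_eq W₁ W₂ φ ψ
  have h2 := XF_eq W₁ W₂ φ' ψ'
  calc classInner (XF W₁ W₂ φ ψ) (XF W₁ W₂ φ' ψ')
      = classInner (∑ χ, (coef W₁ W₂ φ ψ χ : ℂ) • (χ : G → ℂ))
          (∑ χ, (coef W₁ W₂ φ' ψ' χ : ℂ) • (χ : G → ℂ)) := congrArg₂ classInner h1 h2
    _ = _ := Cfsg.Agent.Helper82.classInner_int_comb _ _

end coef

theorem classInner_one_one : classInner (fun _ : G => (1 : ℂ)) (fun _ : G => (1 : ℂ)) = 1 := by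
  unfold classInner
  simp only [map_one, mul_one, Finset.sum_const, Finset.card_univ, nsmul_eq_mul]
  rw [Nat.card_eq_fintype_card]
  have : (Fintype.card G : ℂ) ≠ 0 := by exact_mod_cast Fintype.card_ne_zero
  field_simp

/-- the Gram matrix of the `X(φ,ψ)` -/
theorem gram (hW : IsSelfNormalizingCyclic W₁ W₂) (φ φ' ψ ψ' : ↥(W₁ ⊔ W₂) →* ℂˣ)
    (hφ : φ ≠ 1) (hφ' : φ' ≠ 1) (hψ : ψ ≠ 1) (hψ' : ψ' ≠ 1)
    (hφ₂ : ∀ w : ↥(W₁ ⊔ W₂), (w : G) ∈ W₂ → φ w = 1)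
    (hφ₂' : ∀ w : ↥(W₁ ⊔ W₂), (w : G) ∈ W₂ → φ' w = 1)
    (hψ₁ : ∀ w : ↥(W₁ ⊔ W₂), (w : G) ∈ W₁ → ψ w = 1)
    (hψ₁' : ∀ w : ↥(W₁ ⊔ W₂), (w : G) ∈ W₁ → ψ' w = 1)
    [Decidable (φ = φ')] [Decidable (ψ = ψ')] :
    classInner (XF W₁ W₂ φ ψ) (XF W₁ W₂ φ' ψ') =
      (1 + if φ = φ' then 1 else 0) * (1 + if ψ = ψ' then 1 else 0) - 1 := by
  have key := Cfsg.Agent.S1505.result W₁ W₂ hW φ φ' ψ ψ' hφ hφ' hψ hψ'
    (fun w hw => ⟨hφ₂ w hw, hφ₂' w hw⟩) (fun w hw => ⟨hψ₁ w hw, hψ₁' w hw⟩)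
  have key' := Cfsg.Agent.S1505.result W₁ W₂ hW φ' φ ψ' ψ hφ' hφ hψ' hψ
    (fun w hw => ⟨hφ₂' w hw, hφ₂ w hw⟩) (fun w hw => ⟨hψ₁' w hw, hψ₁ w hw⟩)
  obtain ⟨k1, k2⟩ := key
  obtain ⟨k1', -⟩ := key'
  have e1 : XF W₁ W₂ φ ψ = indFun (W₁ ⊔ W₂) (alphaFun W₁ W₂ φ ψ) - (fun _ : G => (1 : ℂ)) := by
    funext g; rfl
  have e2 : XF W₁ W₂ φ' ψ' = indFun (W₁ ⊔ W₂) (alphaFun W₁ W₂ φ' ψ') - (fun _ : G => (1 : ℂ)) := by
    funext g; rfl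
  have k3 : classInner (fun _ : G => (1 : ℂ)) (indFun (W₁ ⊔ W₂) (alphaFun W₁ W₂ φ' ψ')) = 1 := by
    rw [Cfsg.Agent.Helper81.classInner_conj_symm]
    have : classInner (indFun (W₁ ⊔ W₂) (alphaFun W₁ W₂ φ' ψ')) (fun _ : G => (1 : ℂ)) = 1 := k1'
    rw [this, map_one]
  have k1a : classInner (indFun (W₁ ⊔ W₂) (alphaFun W₁ W₂ φ ψ)) (fun _ : G => (1 : ℂ)) = 1 := k1
  have k2a : classInner (indFun (W₁ ⊔ W₂) (alphaFun W₁ W₂ φ ψ))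
      (indFun (W₁ ⊔ W₂) (alphaFun W₁ W₂ φ' ψ')) =
      1 + (if φ = φ' then 1 else 0) + (if ψ = ψ' then 1 else 0) +
        (if φ = φ' then 1 else 0) * (if ψ = ψ' then 1 else 0) := by
    have : classInner (indFun (W₁ ⊔ W₂) (alphaFun W₁ W₂ φ ψ))
      (indFun (W₁ ⊔ W₂) (alphaFun W₁ W₂ φ' ψ')) = _ := k2
    rw [this]
    by_cases h1 : φ = φ' <;> by_cases h2 : ψ = ψ' <;> simp [h1, h2]
  rw [e1, e2, Cfsg.Agent.Helper81.classInner_sub_left, Cfsg.Agent.Helper82.classInner_sub_right,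
    Cfsg.Agent.Helper82.classInner_sub_right, k1a, k2a, k3, classInner_one_one]
  ring

theorem XF_one (φ ψ : ↥(W₁ ⊔ W₂) →* ℂˣ) : XF W₁ W₂ φ ψ 1 = -1 := by
  unfold XF
  rw [indFun_one_eq_zero]
  · ring
  · simp [alphaFun]

theorem classInner_XF_one (hW : IsSelfNormalizingCyclic W₁ W₂) (φ ψ : ↥(W₁ ⊔ W₂) →* ℂˣ)
    (hφ : φ ≠ 1) (hψ : ψ ≠ 1)
    (hφ₂ : ∀ w : ↥(W₁ ⊔ W₂), (w : G) ∈ W₂ → φ w = 1)
    (hψ₁ : ∀ w : ↥(W₁ ⊔ W₂), (w : G) ∈ W₁ → ψ w = 1) :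
    classInner (XF W₁ W₂ φ ψ) (fun _ : G => (1 : ℂ)) = 0 := by
  obtain ⟨k1, -⟩ := Cfsg.Agent.S1505.result W₁ W₂ hW φ φ ψ ψ hφ hφ hψ hψ
    (fun w hw => ⟨hφ₂ w hw, hφ₂ w hw⟩) (fun w hw => ⟨hψ₁ w hw, hψ₁ w hw⟩)
  have e1 : XF W₁ W₂ φ ψ = indFun (W₁ ⊔ W₂) (alphaFun W₁ W₂ φ ψ) - (fun _ : G => (1 : ℂ)) := by
    funext g; rfl
  have k1a : classInner (indFun (W₁ ⊔ W₂) (alphaFun W₁ W₂ φ ψ)) (fun _ : G => (1 : ℂ)) = 1 := k1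
  rw [e1, Cfsg.Agent.Helper81.classInner_sub_left, k1a, classInner_one_one]
  ring


/-! ### Galois twists -/

/-- Galois twist of an irreducible character -/
noncomputable def twistIrr (k : ℕ) (hk : k.Coprime (Nat.card G)) (χ : IrrCharacter G) :
    IrrCharacter G :=
  ⟨fun g => (χ : G → ℂ) (g ^ k), Cfsg.Agent.Helper75.galois_twist_irr χ k hk⟩

theorem twistIrr_apply (k : ℕ) (hk : k.Coprime (Nat.card G)) (χ : IrrCharacter G) (g : G) :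
    (twistIrr k hk χ : G → ℂ) g = (χ : G → ℂ) (g ^ k) := rfl

theorem charDegree_twistIrr (k : ℕ) (hk : k.Coprime (Nat.card G)) (χ : IrrCharacter G) :
    charDegree (twistIrr k hk χ : G → ℂ) = charDegree (χ : G → ℂ) := by
  unfold charDegree
  rw [twistIrr_apply, one_pow]

theorem twistIrr_twistIrr_self {k : ℕ} (hk : k.Coprime (Nat.card G))
    (hkk : k * k ≡ 1 [MOD Nat.card G]) (χ : IrrCharacter G) :
    twistIrr k hk (twistIrr k hk χ) = χ := by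
  apply Subtype.ext
  funext g
  show (χ : G → ℂ) ((g ^ k) ^ k) = (χ : G → ℂ) g
  rw [pow_pow_self_of_modEq hkk g]

theorem twistIrr_comm {k l : ℕ} (hk : k.Coprime (Nat.card G)) (hl : l.Coprime (Nat.card G))
    (χ : IrrCharacter G) :
    twistIrr k hk (twistIrr l hl χ) = twistIrr l hl (twistIrr k hk χ) := by
  apply Subtype.ext
  funext g
  show (χ : G → ℂ) ((g ^ k) ^ l) = (χ : G → ℂ) ((g ^ l) ^ k)
  rw [← pow_mul, ← pow_mul, mul_comm]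

theorem XF_twist {k : ℕ} (hk : k.Coprime (Nat.card G)) (φ ψ : ↥(W₁ ⊔ W₂) →* ℂˣ) (g : G) :
    XF W₁ W₂ φ ψ (g ^ k) = XF W₁ W₂ (φ ^ k) (ψ ^ k) g := by
  unfold XF
  rw [indFun_twist (W₁ ⊔ W₂) _ hk g]
  have : (fun w : ↥(W₁ ⊔ W₂) => alphaFun W₁ W₂ φ ψ (w ^ k)) = alphaFun W₁ W₂ (φ ^ k) (ψ ^ k) := by
    funext w
    simp only [alphaFun, MonoidHom.pow_apply, map_pow, Units.val_pow_eq_pow_val]
  rw [this]

theorem coef_twist [Fintype (IrrCharacter G)] {k : ℕ} (hk : k.Coprime (Nat.card G))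
    (φ ψ : ↥(W₁ ⊔ W₂) →* ℂˣ) (χ : IrrCharacter G) :
    coef W₁ W₂ (φ ^ k) (ψ ^ k) (twistIrr k hk χ) = coef W₁ W₂ φ ψ χ := by
  have h1 := classInner_XF_irr W₁ W₂ (φ ^ k) (ψ ^ k) (twistIrr k hk χ)
  have h2 := classInner_XF_irr W₁ W₂ φ ψ χ
  have h3 : classInner (XF W₁ W₂ (φ ^ k) (ψ ^ k)) (twistIrr k hk χ : G → ℂ) =
      classInner (XF W₁ W₂ φ ψ) (χ : G → ℂ) := by
    have e1 : XF W₁ W₂ (φ ^ k) (ψ ^ k) = fun g => XF W₁ W₂ φ ψ (g ^ k) := by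
      funext g; rw [XF_twist W₁ W₂ hk]
    rw [e1]
    exact classInner_twist hk _ _
  have h4 : ((coef W₁ W₂ (φ ^ k) (ψ ^ k) (twistIrr k hk χ) : ℤ) : ℂ) = (coef W₁ W₂ φ ψ χ : ℂ) :=
    h1.symm.trans (h3.trans h2)
  exact_mod_cast h4

/-! ### Powers of the linear characters -/

theorem pow_A_inv (hcomm : ∀ a ∈ W₁, ∀ b ∈ W₂, a * b = b * a) {k : ℕ}
    (hk : Nat.card W₁ ∣ k + 1) (φ : ↥(W₁ ⊔ W₂) →* ℂˣ)
    (hφ₂ : ∀ w : ↥(W₁ ⊔ W₂), (w : G) ∈ W₂ → φ w = 1) : φ ^ k = φ⁻¹ := by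
  apply eq_of_eq_on_left W₁ W₂ hcomm (φ ^ k) φ⁻¹
  · intro w hw
    rw [MonoidHom.pow_apply, hφ₂ w hw, one_pow]
  · intro w hw
    rw [MonoidHom.inv_apply, hφ₂ w hw, inv_one]
  · intro w hw
    rw [MonoidHom.pow_apply, MonoidHom.inv_apply, ← map_pow, ← map_inv]
    congr 1
    apply Subtype.ext
    rw [Subgroup.coe_pow, Subgroup.coe_inv]
    exact pow_eq_inv_of_dvd W₁ hk hw

theorem pow_B_inv (hcomm : ∀ a ∈ W₁, ∀ b ∈ W₂, a * b = b * a) {k : ℕ}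
    (hk : Nat.card W₂ ∣ k + 1) (ψ : ↥(W₁ ⊔ W₂) →* ℂˣ)
    (hψ₁ : ∀ w : ↥(W₁ ⊔ W₂), (w : G) ∈ W₁ → ψ w = 1) : ψ ^ k = ψ⁻¹ := by
  apply eq_of_eq_on_right W₁ W₂ hcomm (ψ ^ k) ψ⁻¹
  · intro w hw
    rw [MonoidHom.pow_apply, hψ₁ w hw, one_pow]
  · intro w hw
    rw [MonoidHom.inv_apply, hψ₁ w hw, inv_one]
  · intro w hw
    rw [MonoidHom.pow_apply, MonoidHom.inv_apply, ← map_pow, ← map_inv]
    congr 1
    apply Subtype.ext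
    rw [Subgroup.coe_pow, Subgroup.coe_inv]
    exact pow_eq_inv_of_dvd W₂ hk hw

theorem pow_A_self (hcomm : ∀ a ∈ W₁, ∀ b ∈ W₂, a * b = b * a) {k : ℕ}
    (hk : k ≡ 1 [MOD Nat.card W₁]) (φ : ↥(W₁ ⊔ W₂) →* ℂˣ)
    (hφ₂ : ∀ w : ↥(W₁ ⊔ W₂), (w : G) ∈ W₂ → φ w = 1) : φ ^ k = φ := by
  apply eq_of_eq_on_left W₁ W₂ hcomm (φ ^ k) φ
  · intro w hw
    rw [MonoidHom.pow_apply, hφ₂ w hw, one_pow]
  · exact hφ₂
  · intro w hw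
    rw [MonoidHom.pow_apply, ← map_pow]
    congr 1
    apply Subtype.ext
    rw [Subgroup.coe_pow]
    exact pow_eq_self_of_modEq W₁ hk hw

theorem pow_B_self (hcomm : ∀ a ∈ W₁, ∀ b ∈ W₂, a * b = b * a) {k : ℕ}
    (hk : k ≡ 1 [MOD Nat.card W₂]) (ψ : ↥(W₁ ⊔ W₂) →* ℂˣ)
    (hψ₁ : ∀ w : ↥(W₁ ⊔ W₂), (w : G) ∈ W₁ → ψ w = 1) : ψ ^ k = ψ := by
  apply eq_of_eq_on_right W₁ W₂ hcomm (ψ ^ k) ψ
  · intro w hw
    rw [MonoidHom.pow_apply, hψ₁ w hw, one_pow]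
  · exact hψ₁
  · intro w hw
    rw [MonoidHom.pow_apply, ← map_pow]
    congr 1
    apply Subtype.ext
    rw [Subgroup.coe_pow]
    exact pow_eq_self_of_modEq W₂ hk hw

end Cfsg.Agent.Helper79.CycTI
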