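import Cfsg.Agent.Lib.Helper79.CycTI.Inst

/-!
# The `Cfg` instance and the resulting pre-family
-/

set_option autoImplicit false
set_option linter.unusedSectionVars false
set_option linter.unusedVariables false

namespace Cfsg.Agent.Helper79.CycTI

open Cfsg Cfsg.Agent.Helper25
open scoped ComplexConjugate

universe u
variable {G : Type u} [Group G] [Fintype G] (W₁ W₂ : Subgroup G)

theorem AT_nonempty (hW : IsSelfNormalizingCyclic W₁ W₂) : Nonempty (AT W₁ W₂) := by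
  obtain ⟨hne1, hne2, hinf, hcomm, hcyc, -⟩ := hW
  obtain ⟨⟨x, hx⟩, hx1'⟩ := (Subgroup.ne_bot_iff_exists_ne_one).mp hne1
  have hx1 : x ≠ 1 := fun h => hx1' (Subtype.ext h)
  have hx2 : x ∉ W₂ := by
    intro h
    have : x ∈ W₁ ⊓ W₂ := ⟨hx, h⟩
    rw [hinf, Subgroup.mem_bot] at this
    exact hx1 this
  obtain ⟨φ, hφ, hφx⟩ := exists_ne_one_left W₁ W₂ hinf hcomm hcyc
    ⟨x, Subgroup.mem_sup_left hx⟩ hx2
  refine ⟨⟨φ, ?_, hφ⟩⟩
  intro h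
  apply hφx
  rw [h]; rfl

theorem BT_nonempty (hW : IsSelfNormalizingCyclic W₁ W₂) : Nonempty (BT W₁ W₂) := by
  obtain ⟨hne1, hne2, hinf, hcomm, hcyc, -⟩ := hW
  obtain ⟨⟨x, hx⟩, hx1'⟩ := (Subgroup.ne_bot_iff_exists_ne_one).mp hne2
  have hx1 : x ≠ 1 := fun h => hx1' (Subtype.ext h)
  have hx2 : x ∉ W₁ := by
    intro h
    have : x ∈ W₁ ⊓ W₂ := ⟨h, hx⟩
    rw [hinf, Subgroup.mem_bot] at this
    exact hx1 this
  obtain ⟨ψ, hψ, hψx⟩ := exists_ne_one_right W₁ W₂ hinf hcomm hcyc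
    ⟨x, Subgroup.mem_sup_right hx⟩ hx2
  refine ⟨⟨ψ, ?_, hψ⟩⟩
  intro h
  apply hψx
  rw [h]; rfl

theorem hom_inv_ne_one {A : Type*} [Group A] {φ : A →* ℂˣ} (h : φ ≠ 1) : φ⁻¹ ≠ 1 := by
  intro h'
  apply h
  ext w
  have := DFunLike.congr_fun h' w
  rw [MonoidHom.inv_apply, MonoidHom.one_apply, inv_eq_one] at this
  rw [this]; rfl

theorem hom_inv_inv {A : Type*} [Group A] (φ : A →* ℂˣ) : (φ⁻¹)⁻¹ = φ := by
  ext w
  rw [MonoidHom.inv_apply, MonoidHom.inv_apply, inv_inv]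

theorem hom_inv_mul_self {A : Type*} [Group A] (φ : A →* ℂˣ) : φ⁻¹ * φ = 1 := by
  ext w
  rw [MonoidHom.mul_apply, MonoidHom.inv_apply, inv_mul_cancel]; rfl

/-- inversion on `AT` -/
def invA (a : AT W₁ W₂) : AT W₁ W₂ :=
  ⟨a.1⁻¹, hom_inv_ne_one a.2.1, fun w hw => by rw [MonoidHom.inv_apply, a.2.2 w hw, inv_one]⟩

/-- inversion on `BT` -/
def invB (b : BT W₁ W₂) : BT W₁ W₂ :=
  ⟨b.1⁻¹, hom_inv_ne_one b.2.1, fun w hw => by rw [MonoidHom.inv_apply, b.2.2 w hw, inv_one]⟩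

theorem invA_val (a : AT W₁ W₂) : (invA W₁ W₂ a).1 = a.1⁻¹ := rfl
theorem invB_val (b : BT W₁ W₂) : (invB W₁ W₂ b).1 = b.1⁻¹ := rfl

theorem invA_invA (a : AT W₁ W₂) : invA W₁ W₂ (invA W₁ W₂ a) = a :=
  Subtype.ext (hom_inv_inv a.1)

theorem invB_invB (b : BT W₁ W₂) : invB W₁ W₂ (invB W₁ W₂ b) = b :=
  Subtype.ext (hom_inv_inv b.1)

theorem invA_ne (hodd : Odd (Nat.card ↥(W₁ ⊔ W₂))) (a : AT W₁ W₂) : invA W₁ W₂ a ≠ a := by
  intro h
  have h1 : a.1⁻¹ = a.1 := congrArg Subtype.val h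
  have h2 : a.1 * a.1 = 1 := by
    nth_rewrite 1 [← h1]
    exact hom_inv_mul_self _
  exact hom_sq_ne_one hodd a.2.1 h2

theorem invB_ne (hodd : Odd (Nat.card ↥(W₁ ⊔ W₂))) (b : BT W₁ W₂) : invB W₁ W₂ b ≠ b := by
  intro h
  have h1 : b.1⁻¹ = b.1 := congrArg Subtype.val h
  have h2 : b.1 * b.1 = 1 := by
    nth_rewrite 1 [← h1]
    exact hom_inv_mul_self _
  exact hom_sq_ne_one hodd b.2.1 h2

variable [Fintype (IrrCharacter G)]

theorem sum_coef_mul_deg (φ ψ : ↥(W₁ ⊔ W₂) →* ℂˣ) :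
    ∑ χ : IrrCharacter G, coef W₁ W₂ φ ψ χ * (charDegree (χ : G → ℂ) : ℤ) = -1 := by
  have h1 := congrFun (XF_eq W₁ W₂ φ ψ) 1
  rw [XF_one, Finset.sum_apply] at h1
  have h2 : ∀ χ : IrrCharacter G, ((coef W₁ W₂ φ ψ χ : ℂ) • (χ : G → ℂ)) 1 =
      ((coef W₁ W₂ φ ψ χ * (charDegree (χ : G → ℂ) : ℤ) : ℤ) : ℂ) := by
    intro χ
    rw [Pi.smul_apply, smul_eq_mul, (Cfsg.Agent.Helper79.irr_one_eq χ).1]
    push_cast
    ring
  rw [Finset.sum_congr rfl (fun χ _ => h2 χ), ← Int.cast_sum] at h1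
  have h3 : ((-1 : ℤ) : ℂ) = -1 := by push_cast; ring
  rw [← h3] at h1
  exact (Int.cast_injective h1).symm

/-- the configuration attached to `(W₁, W₂)` -/
theorem exists_cfg (hW : IsSelfNormalizingCyclic W₁ W₂) (hodd : Odd (Nat.card ↥(W₁ ⊔ W₂))) :
    ∃ c : Cfg (AT W₁ W₂) (BT W₁ W₂) (IrrCharacter G),
      (∀ a b χ, c.m a b χ = coef W₁ W₂ a.1 b.1 χ) ∧ c.iA = invA W₁ W₂ ∧ c.iB = invB W₁ W₂ := by
  classical
  have hW' := hW
  obtain ⟨hne1, hne2, hinf, hcomm, hcyc, -⟩ := hW'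
  have hcop : (Nat.card W₁).Coprime (Nat.card W₂) := coprime_card_of_cyclic W₁ W₂ hinf hcomm hcyc
  have hn : Nat.card G ≠ 0 := Nat.card_pos.ne'
  obtain ⟨k₁, hk₁, hkk₁, hk₁a, hk₁b⟩ := exists_partial_twist hn (Subgroup.card_subgroup_dvd_card W₁)
    (Subgroup.card_subgroup_dvd_card W₂) hcop
  obtain ⟨k₂, hk₂, hkk₂, hk₂b, hk₂a⟩ := exists_partial_twist hn (Subgroup.card_subgroup_dvd_card W₂)
    (Subgroup.card_subgroup_dvd_card W₁) hcop.symm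
  have gramZ : ∀ a a' : AT W₁ W₂, ∀ b b' : BT W₁ W₂,
      ∑ χ, coef W₁ W₂ a.1 b.1 χ * coef W₁ W₂ a'.1 b'.1 χ =
        (1 + if a = a' then 1 else 0) * (1 + if b = b' then 1 else 0) - 1 := by
    intro a a' b b'
    have h1 := classInner_XF_XF W₁ W₂ a.1 b.1 a'.1 b'.1
    have h2 := gram W₁ W₂ hW a.1 a'.1 b.1 b'.1 a.2.1 a'.2.1 b.2.1 b'.2.1 a.2.2 a'.2.2 b.2.2 b'.2.2
    rw [h1] at h2
    have ea : (a.1 = a'.1) ↔ a = a' := ⟨fun h => Subtype.ext h, fun h => congrArg Subtype.val h⟩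
    have eb : (b.1 = b'.1) ↔ b = b' := ⟨fun h => Subtype.ext h, fun h => congrArg Subtype.val h⟩
    have h3 : ((∑ χ, coef W₁ W₂ a.1 b.1 χ * coef W₁ W₂ a'.1 b'.1 χ : ℤ) : ℂ) =
        (((1 + if a = a' then 1 else 0) * (1 + if b = b' then 1 else 0) - 1 : ℤ) : ℂ) := by
      rw [h2]
      by_cases h5 : a = a'
      · by_cases h6 : b = b'
        · rw [if_pos (ea.mpr h5), if_pos (eb.mpr h6), if_pos h5, if_pos h6]; norm_num
        · rw [if_pos (ea.mpr h5), if_neg ((not_congr eb).mpr h6), if_pos h5, if_neg h6]; norm_num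
      · by_cases h6 : b = b'
        · rw [if_neg ((not_congr ea).mpr h5), if_pos (eb.mpr h6), if_neg h5, if_pos h6]; norm_num
        · rw [if_neg ((not_congr ea).mpr h5), if_neg ((not_congr eb).mpr h6), if_neg h5, if_neg h6]
          norm_num
    exact Int.cast_injective h3
  refine ⟨{
    m := fun a b χ => coef W₁ W₂ a.1 b.1 χ
    iA := invA W₁ W₂
    iB := invB W₁ W₂
    p1 := twistIrr k₁ hk₁
    p2 := twistIrr k₂ hk₂
    deg := fun χ => (charDegree (χ : G → ℂ) : ℤ)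
    iA_inv := invA_invA W₁ W₂
    iA_ne := invA_ne W₁ W₂ hodd
    iB_inv := invB_invB W₁ W₂
    iB_ne := invB_ne W₁ W₂ hodd
    p1_inv := fun χ => twistIrr_twistIrr_self hk₁ hkk₁ χ
    p2_inv := fun χ => twistIrr_twistIrr_self hk₂ hkk₂ χ
    p_comm := fun χ => twistIrr_comm hk₁ hk₂ χ
    deg_ne := ?_
    deg_p1 := fun χ => by rw [charDegree_twistIrr]
    deg_p2 := fun χ => by rw [charDegree_twistIrr]
    m_p1 := ?_
    m_p2 := ?_
    norm := ?_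
    row := ?_
    col := ?_
    off := ?_
    degsum := ?_ }, fun _ _ _ => rfl, rfl, rfl⟩
  · intro χ
    have := (Cfsg.Agent.Helper79.irr_one_eq χ).2
    exact_mod_cast this.ne'
  · intro a b χ
    show coef W₁ W₂ a.1⁻¹ b.1 (twistIrr k₁ hk₁ χ) = coef W₁ W₂ a.1 b.1 χ
    have h := coef_twist W₁ W₂ hk₁ a.1 b.1 χ
    rw [pow_A_inv W₁ W₂ hcomm hk₁a a.1 a.2.2, pow_B_self W₁ W₂ hcomm hk₁b b.1 b.2.2] at h
    exact h
  · intro a b χ
    show coef W₁ W₂ a.1 b.1⁻¹ (twistIrr k₂ hk₂ χ) = coef W₁ W₂ a.1 b.1 χ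
    have h := coef_twist W₁ W₂ hk₂ a.1 b.1 χ
    rw [pow_A_self W₁ W₂ hcomm hk₂a a.1 a.2.2, pow_B_inv W₁ W₂ hcomm hk₂b b.1 b.2.2] at h
    exact h
  · intro a b
    have := gramZ a a b b
    simp only [if_true] at this
    have h3 : ∑ χ, coef W₁ W₂ a.1 b.1 χ ^ 2 = ∑ χ, coef W₁ W₂ a.1 b.1 χ * coef W₁ W₂ a.1 b.1 χ := by
      apply Finset.sum_congr rfl
      intro χ _
      ring
    show ∑ χ, coef W₁ W₂ a.1 b.1 χ ^ 2 = 3
    rw [h3, this]; norm_num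
  · intro a b b' hb
    have := gramZ a a b b'
    rw [if_pos rfl, if_neg hb] at this
    rw [this]; norm_num
  · intro a a' b ha
    have := gramZ a a' b b
    rw [if_pos rfl, if_neg ha] at this
    rw [this]; norm_num
  · intro a a' b b' ha hb
    have := gramZ a a' b b'
    rw [if_neg ha, if_neg hb] at this
    rw [this]; norm_num
  · intro a b a' b'
    show ∑ χ, coef W₁ W₂ a.1 b.1 χ * (charDegree (χ : G → ℂ) : ℤ) =
      ∑ χ, coef W₁ W₂ a'.1 b'.1 χ * (charDegree (χ : G → ℂ) : ℤ)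
    rw [sum_coef_mul_deg, sum_coef_mul_deg]

end Cfsg.Agent.Helper79.CycTI
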