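import Mathlib

/-!
# Integer vectors with three entries `±1`: elementary pair lemmas

Abstract combinatorial lemmas used for the cyclic TI theorem (Peterfalvi 3.5).
`f g : Ir → ℤ` are coefficient vectors of generalized characters of norm `3`.
-/

set_option autoImplicit false

namespace Cfsg.Agent.Helper79.CycTI

open Finset

variable {Ir : Type*} [Fintype Ir]

theorem tri_of_sq_sum (f : Ir → ℤ) (h : ∑ x, f x ^ 2 = 3) (x : Ir) :
    f x = 0 ∨ f x = 1 ∨ f x = -1 := by
  have hle : f x ^ 2 ≤ ∑ y, f y ^ 2 :=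
    Finset.single_le_sum (f := fun y => f y ^ 2) (fun y _ => sq_nonneg (f y)) (Finset.mem_univ x)
  rw [h] at hle
  have h1 : -2 < f x := by nlinarith
  have h2 : f x < 2 := by nlinarith
  omega

theorem sq_eq_ite (f : Ir → ℤ) (h : ∑ x, f x ^ 2 = 3) (x : Ir) :
    f x ^ 2 = if f x ≠ 0 then 1 else 0 := by
  rcases tri_of_sq_sum f h x with h0 | h0 | h0 <;> simp [h0]

theorem card_supp_of_sq_sum [DecidableEq Ir] (f : Ir → ℤ) (h : ∑ x, f x ^ 2 = 3) :
    (univ.filter (fun x => f x ≠ 0)).card = 3 := by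
  have h1 : ∑ x, f x ^ 2 = ∑ x, (if f x ≠ 0 then (1 : ℤ) else 0) :=
    Finset.sum_congr rfl (fun x _ => sq_eq_ite f h x)
  rw [h] at h1
  rw [Finset.sum_ite, Finset.sum_const_zero, add_zero, Finset.sum_const, nsmul_eq_mul, mul_one] at h1
  exact_mod_cast h1.symm

/-- aligned pair: no common constituent with opposite signs. -/
theorem aligned_no_opp [DecidableEq Ir] (f g deg : Ir → ℤ) (hf : ∑ x, f x ^ 2 = 3)
    (hg : ∑ x, g x ^ 2 = 3)
    (hfg : ∑ x, f x * g x = 1) (hdeg : ∑ x, f x * deg x = ∑ x, g x * deg x)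
    (hd : ∀ x, deg x ≠ 0) (x₀ : Ir) (hx : f x₀ ≠ 0) : g x₀ ≠ - f x₀ := by
  intro hopp
  -- δ = f - g
  have hδ : ∑ x, (f x - g x) ^ 2 = 4 := by
    have : ∀ x, (f x - g x) ^ 2 = f x ^ 2 + g x ^ 2 - 2 * (f x * g x) := fun x => by ring
    simp_rw [this]
    rw [Finset.sum_sub_distrib, Finset.sum_add_distrib, ← Finset.mul_sum, hf, hg, hfg]; norm_num
  have hs : f x₀ = 1 ∨ f x₀ = -1 := by
    rcases tri_of_sq_sum f hf x₀ with h0 | h0 | h0
    · exact absurd h0 hx
    · exact Or.inl h0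
    · exact Or.inr h0
  have hδ0 : (f x₀ - g x₀) ^ 2 = 4 := by
    rw [hopp]; rcases hs with h0 | h0 <;> rw [h0] <;> norm_num
  have hrest : ∀ x, x ≠ x₀ → f x - g x = 0 := by
    intro x hxne
    by_contra hne
    have hpos : 0 < (f x - g x) ^ 2 := by positivity
    have hsplit : ∑ y, (f y - g y) ^ 2 =
        (f x₀ - g x₀) ^ 2 + ∑ y ∈ univ.erase x₀, (f y - g y) ^ 2 :=
      (Finset.add_sum_erase univ (fun y => (f y - g y) ^ 2) (Finset.mem_univ x₀)).symm
    have hle : (f x - g x) ^ 2 ≤ ∑ y ∈ univ.erase x₀, (f y - g y) ^ 2 :=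
      Finset.single_le_sum (f := fun y => (f y - g y) ^ 2) (fun y _ => sq_nonneg _)
        (Finset.mem_erase.mpr ⟨hxne, Finset.mem_univ x⟩)
    rw [hsplit, hδ0] at hδ
    linarith
  have hsum : ∑ x, (f x - g x) * deg x = (f x₀ - g x₀) * deg x₀ := by
    rw [← Finset.add_sum_erase univ (fun x => (f x - g x) * deg x) (Finset.mem_univ x₀)]
    have : ∑ x ∈ univ.erase x₀, (f x - g x) * deg x = 0 := by
      apply Finset.sum_eq_zero
      intro x hx'
      rw [hrest x (Finset.ne_of_mem_erase hx'), zero_mul]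
    rw [this, add_zero]
  have hzero : ∑ x, (f x - g x) * deg x = 0 := by
    simp_rw [sub_mul]
    rw [Finset.sum_sub_distrib, hdeg, sub_self]
  rw [hzero, hopp] at hsum
  have : f x₀ * deg x₀ = 0 := by linarith
  rcases mul_eq_zero.mp this with h0 | h0
  · exact hx h0
  · exact hd x₀ h0

theorem aligned_eq [DecidableEq Ir] (f g deg : Ir → ℤ) (hf : ∑ x, f x ^ 2 = 3)
    (hg : ∑ x, g x ^ 2 = 3)
    (hfg : ∑ x, f x * g x = 1) (hdeg : ∑ x, f x * deg x = ∑ x, g x * deg x)
    (hd : ∀ x, deg x ≠ 0) (x : Ir) (hfx : f x ≠ 0) (hgx : g x ≠ 0) : g x = f x := by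
  have hno := aligned_no_opp f g deg hf hg hfg hdeg hd x hfx
  rcases tri_of_sq_sum f hf x with h0 | h0 | h0 <;>
  rcases tri_of_sq_sum g hg x with h1 | h1 | h1 <;> simp_all

theorem aligned_common [DecidableEq Ir] (f g deg : Ir → ℤ) (hf : ∑ x, f x ^ 2 = 3)
    (hg : ∑ x, g x ^ 2 = 3)
    (hfg : ∑ x, f x * g x = 1) (hdeg : ∑ x, f x * deg x = ∑ x, g x * deg x)
    (hd : ∀ x, deg x ≠ 0) : ∃! x, f x ≠ 0 ∧ g x ≠ 0 := by
  have hterm : ∀ x, f x * g x = if (f x ≠ 0 ∧ g x ≠ 0) then 1 else 0 := by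
    intro x
    by_cases hfx : f x ≠ 0
    · by_cases hgx : g x ≠ 0
      · have := aligned_eq f g deg hf hg hfg hdeg hd x hfx hgx
        rw [if_pos ⟨hfx, hgx⟩, this]
        rcases tri_of_sq_sum f hf x with h0 | h0 | h0
        · exact absurd h0 hfx
        · rw [h0]; norm_num
        · rw [h0]; norm_num
      · rw [if_neg (fun h => hgx h.2)]
        push Not at hgx; rw [hgx, mul_zero]
    · rw [if_neg (fun h => hfx h.1)]
      push Not at hfx; rw [hfx, zero_mul]
  have hcard : ((univ.filter (fun x => f x ≠ 0 ∧ g x ≠ 0)).card : ℤ) = 1 := by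
    rw [← hfg]
    simp_rw [hterm]
    rw [Finset.sum_ite, Finset.sum_const_zero, add_zero, Finset.sum_const, nsmul_eq_mul, mul_one]
  have hcard' : (univ.filter (fun x => f x ≠ 0 ∧ g x ≠ 0)).card = 1 := by exact_mod_cast hcard
  obtain ⟨x, hx⟩ := Finset.card_eq_one.mp hcard'
  refine ⟨x, ?_, ?_⟩
  · have : x ∈ univ.filter (fun x => f x ≠ 0 ∧ g x ≠ 0) := by rw [hx]; exact Finset.mem_singleton_self x
    exact (Finset.mem_filter.mp this).2
  · intro y hy
    have : y ∈ univ.filter (fun x => f x ≠ 0 ∧ g x ≠ 0) :=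
      Finset.mem_filter.mpr ⟨Finset.mem_univ y, hy⟩
    rw [hx] at this
    exact Finset.mem_singleton.mp this

/-- non-aligned pair: a common constituent with equal signs forces exactly one with opposite signs. -/
theorem off_opp [DecidableEq Ir] (f g : Ir → ℤ) (hf : ∑ x, f x ^ 2 = 3) (hg : ∑ x, g x ^ 2 = 3)
    (hfg : ∑ x, f x * g x = 0) (x₀ : Ir) (hx₀ : f x₀ ≠ 0) (hsame : g x₀ = f x₀) :
    ∃! t, f t ≠ 0 ∧ g t = - f t := by
  classical
  set S := univ.filter (fun x => f x ≠ 0 ∧ g x = f x) with hS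
  set O := univ.filter (fun x => f x ≠ 0 ∧ g x = - f x) with hO
  have hterm : ∀ x, f x * g x = (if (f x ≠ 0 ∧ g x = f x) then 1 else 0)
      - (if (f x ≠ 0 ∧ g x = - f x) then 1 else 0) := by
    intro x
    rcases tri_of_sq_sum f hf x with h0 | h0 | h0 <;>
    rcases tri_of_sq_sum g hg x with h1 | h1 | h1 <;> simp [h0, h1]
  have hsum : (S.card : ℤ) - O.card = 0 := by
    rw [← hfg]
    simp_rw [hterm]
    rw [Finset.sum_sub_distrib]
    congr 1
    · rw [Finset.sum_ite, Finset.sum_const_zero, add_zero, Finset.sum_const, nsmul_eq_mul, mul_one]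
    · rw [Finset.sum_ite, Finset.sum_const_zero, add_zero, Finset.sum_const, nsmul_eq_mul, mul_one]
  have hdisj : Disjoint S O := by
    rw [Finset.disjoint_left]
    intro x hxS hxO
    have h1 := (Finset.mem_filter.mp hxS).2
    have h2 := (Finset.mem_filter.mp hxO).2
    have : f x = - f x := h1.2.symm.trans h2.2
    have : f x = 0 := by linarith
    exact h1.1 this
  have hsub : S ∪ O ⊆ univ.filter (fun x => f x ≠ 0) := by
    intro x hx
    rcases Finset.mem_union.mp hx with h | h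
    · exact Finset.mem_filter.mpr ⟨Finset.mem_univ x, (Finset.mem_filter.mp h).2.1⟩
    · exact Finset.mem_filter.mpr ⟨Finset.mem_univ x, (Finset.mem_filter.mp h).2.1⟩
  have hle : S.card + O.card ≤ 3 := by
    rw [← Finset.card_union_of_disjoint hdisj, ← card_supp_of_sq_sum f hf]
    exact Finset.card_le_card hsub
  have hSpos : 1 ≤ S.card := by
    apply Finset.card_pos.mpr
    exact ⟨x₀, Finset.mem_filter.mpr ⟨Finset.mem_univ x₀, hx₀, hsame⟩⟩
  have hOcard : O.card = 1 := by omega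
  obtain ⟨t, ht⟩ := Finset.card_eq_one.mp hOcard
  refine ⟨t, ?_, ?_⟩
  · have : t ∈ O := by rw [ht]; exact Finset.mem_singleton_self t
    exact (Finset.mem_filter.mp this).2
  · intro y hy
    have : y ∈ O := Finset.mem_filter.mpr ⟨Finset.mem_univ y, hy⟩
    rw [ht] at this
    exact Finset.mem_singleton.mp this

end Cfsg.Agent.Helper79.CycTI
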