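import Cfsg.Agent.Lib.Helper79.CycTI.Inst2

/-!
# The pre-family: decomposition of `Ind((1-φ)(1-ψ))` into signed irreducibles
-/

set_option autoImplicit false
set_option linter.unusedSectionVars false
set_option linter.unusedVariables false

namespace Cfsg.Agent.Helper79.CycTI

open Cfsg Cfsg.Agent.Helper25
open scoped ComplexConjugate

universe u
variable {G : Type u} [Group G] [Fintype G] (W₁ W₂ : Subgroup G)

/-- **Peterfalvi (3.5), existence part.**  For a self-normalizing cyclic `W = W₁ × W₂` of odd order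
there are pairwise distinct nonprincipal irreducible characters `ra φ`, `rb ψ`, `rc φ ψ` and signs
with `Ind((1-φ)(1-ψ)) = 1 + ea φ • ra φ + eb ψ • rb ψ + ec φ ψ • rc φ ψ`. -/
theorem exists_prefamily (hW : IsSelfNormalizingCyclic W₁ W₂)
    (hodd : Odd (Nat.card ↥(W₁ ⊔ W₂))) :
    ∃ (ra : AT W₁ W₂ → IrrCharacter G) (rb : BT W₁ W₂ → IrrCharacter G)
      (rc : AT W₁ W₂ → BT W₁ W₂ → IrrCharacter G)
      (ea : AT W₁ W₂ → ℤ) (eb : BT W₁ W₂ → ℤ) (ec : AT W₁ W₂ → BT W₁ W₂ → ℤ),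
      (∀ a, ea a = 1 ∨ ea a = -1) ∧ (∀ b, eb b = 1 ∨ eb b = -1) ∧
      (∀ a b, ec a b = 1 ∨ ec a b = -1) ∧
      Function.Injective ra ∧ Function.Injective rb ∧
      (∀ a b a' b', rc a b = rc a' b' → a = a' ∧ b = b') ∧
      (∀ a b, ra a ≠ rb b) ∧ (∀ a a' b, ra a ≠ rc a' b) ∧ (∀ b a b', rb b ≠ rc a b') ∧
      (∀ a, (ra a : G → ℂ) ≠ fun _ => 1) ∧ (∀ b, (rb b : G → ℂ) ≠ fun _ => 1) ∧
      (∀ a b, (rc a b : G → ℂ) ≠ fun _ => 1) ∧
      ∀ (a : AT W₁ W₂) (b : BT W₁ W₂) (g : G),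
        indFun (W₁ ⊔ W₂) (alphaFun W₁ W₂ a.1 b.1) g =
          1 + (ea a : ℂ) * (ra a : G → ℂ) g + (eb b : ℂ) * (rb b : G → ℂ) g
            + (ec a b : ℂ) * (rc a b : G → ℂ) g := by
  classical
  have : Fintype (IrrCharacter G) := Fintype.ofFinite _
  have := AT_nonempty W₁ W₂ hW
  have := BT_nonempty W₁ W₂ hW
  obtain ⟨c, hm, -, -⟩ := exists_cfg W₁ W₂ hW hodd
  obtain ⟨ra, rb, rc, ea, eb, ec, hea, heb, hec, hformula, hinja, hinjb, hinjc, hab, hac, hbc, -⟩ :=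
    c.structure_thm
  have hea0 : ∀ a, ea a ≠ 0 := fun a => by rcases hea a with h | h <;> rw [h] <;> norm_num
  have heb0 : ∀ b, eb b ≠ 0 := fun b => by rcases heb b with h | h <;> rw [h] <;> norm_num
  have hec0 : ∀ a b, ec a b ≠ 0 := fun a b => by rcases hec a b with h | h <;> rw [h] <;> norm_num
  -- the principal character does not occur
  have htriv : ∀ a b (ξ : IrrCharacter G), (ξ : G → ℂ) = (fun _ => 1) → c.m a b ξ = 0 := by
    intro a b ξ hξ
    rw [hm]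
    have h1 := classInner_XF_irr W₁ W₂ a.1 b.1 ξ
    rw [hξ, classInner_XF_one W₁ W₂ hW a.1 b.1 a.2.1 b.2.1 a.2.2 b.2.2] at h1
    exact_mod_cast h1.symm
  obtain ⟨a₀⟩ := AT_nonempty W₁ W₂ hW
  obtain ⟨b₀⟩ := BT_nonempty W₁ W₂ hW
  refine ⟨ra, rb, rc, ea, eb, ec, hea, heb, hec, hinja, hinjb, hinjc, hab, hac, hbc, ?_, ?_, ?_, ?_⟩
  · intro a h
    have h1 := htriv a b₀ (ra a) h
    rw [hformula, if_pos rfl, if_neg (hab a b₀), if_neg (hac a a b₀), add_zero, add_zero] at h1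
    exact hea0 a h1
  · intro b h
    have h1 := htriv a₀ b (rb b) h
    rw [hformula, if_neg (hab a₀ b).symm, if_pos rfl, if_neg (hbc b a₀ b), zero_add, add_zero] at h1
    exact heb0 b h1
  · intro a b h
    have h1 := htriv a b (rc a b) h
    rw [hformula, if_neg (hac a a b).symm, if_neg (hbc b a b).symm, if_pos rfl, zero_add,
      zero_add] at h1
    exact hec0 a b h1
  · intro a b g
    have h1 : indFun (W₁ ⊔ W₂) (alphaFun W₁ W₂ a.1 b.1) g = 1 + XF W₁ W₂ a.1 b.1 g := by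
      unfold XF; ring
    rw [h1, XF_eq W₁ W₂ a.1 b.1, Finset.sum_apply]
    have h2 : ∀ χ : IrrCharacter G, ((coef W₁ W₂ a.1 b.1 χ : ℂ) • (χ : G → ℂ)) g =
        (if χ = ra a then (ea a : ℂ) * (χ : G → ℂ) g else 0)
        + (if χ = rb b then (eb b : ℂ) * (χ : G → ℂ) g else 0)
        + (if χ = rc a b then (ec a b : ℂ) * (χ : G → ℂ) g else 0) := by
      intro χ
      rw [Pi.smul_apply, smul_eq_mul, ← hm, hformula]
      push_cast
      rw [add_mul, add_mul, ite_mul, ite_mul, ite_mul, zero_mul]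
    rw [Finset.sum_congr rfl (fun χ _ => h2 χ), Finset.sum_add_distrib, Finset.sum_add_distrib,
      Finset.sum_ite_eq', Finset.sum_ite_eq', Finset.sum_ite_eq']
    simp only [Finset.mem_univ, if_true]
    ring

end Cfsg.Agent.Helper79.CycTI
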