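import Cfsg.Agent.Lib.Helper79.CycTI.Cfg

set_option autoImplicit false
set_option linter.unusedSectionVars false

namespace Cfsg.Agent.Helper79.CycTI

open Finset

namespace Cfg

variable {A B Ir : Type*} [Fintype Ir] [DecidableEq Ir] (c : Cfg A B Ir)

theorem exists_R0_supp (a : A) (b : B) {x₂ x₁ : Ir} (h2 : c.R2 a b x₂) (h1 : c.R1 a b x₁) :
    ∃ x₀, c.R0 a b x₀ ∧ univ.filter (fun x => c.m a b x ≠ 0) = {x₂, x₁, x₀} ∧
      x₂ ≠ x₁ ∧ x₂ ≠ x₀ ∧ x₁ ≠ x₀ := by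
  set S := univ.filter (fun x => c.m a b x ≠ 0) with hS
  have hcard : S.card = 3 := card_supp_of_sq_sum (c.m a b) (c.norm a b)
  have hx2 : x₂ ∈ S := Finset.mem_filter.mpr ⟨Finset.mem_univ _, h2.1⟩
  have hx1 : x₁ ∈ S := Finset.mem_filter.mpr ⟨Finset.mem_univ _, h1.1⟩
  have hne : x₂ ≠ x₁ := by
    intro h
    rw [← h] at h1
    exact c.not_R1_R2 a b x₂ h1 h2
  have hx1' : x₁ ∈ S.erase x₂ := Finset.mem_erase.mpr ⟨hne.symm, hx1⟩
  have hc1 : (S.erase x₂).card = 2 := by rw [Finset.card_erase_of_mem hx2, hcard]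
  have hc2 : ((S.erase x₂).erase x₁).card = 1 := by rw [Finset.card_erase_of_mem hx1', hc1]
  obtain ⟨x₀, hx₀⟩ := Finset.card_eq_one.mp hc2
  have hmem : x₀ ∈ (S.erase x₂).erase x₁ := by rw [hx₀]; exact Finset.mem_singleton_self _
  have hx₀1 : x₀ ≠ x₁ := Finset.ne_of_mem_erase hmem
  have hmem' : x₀ ∈ S.erase x₂ := Finset.mem_of_mem_erase hmem
  have hx₀2 : x₀ ≠ x₂ := Finset.ne_of_mem_erase hmem'
  have hx₀S : x₀ ∈ S := Finset.mem_of_mem_erase hmem'
  have hm0 : c.m a b x₀ ≠ 0 := (Finset.mem_filter.mp hx₀S).2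
  refine ⟨x₀, ⟨hm0, ?_, ?_⟩, ?_, hne, hx₀2.symm, hx₀1.symm⟩
  · intro h
    exact hx₀1 (c.R1_unique a b ⟨hm0, h⟩ h1)
  · intro h
    exact hx₀2 (c.R2_unique a b ⟨hm0, h⟩ h2)
  · ext y
    simp only [Finset.mem_insert, Finset.mem_singleton]
    constructor
    · intro hy
      by_cases hy2 : y = x₂
      · exact Or.inl hy2
      · by_cases hy1 : y = x₁
        · exact Or.inr (Or.inl hy1)
        · have : y ∈ (S.erase x₂).erase x₁ :=
            Finset.mem_erase.mpr ⟨hy1, Finset.mem_erase.mpr ⟨hy2, hy⟩⟩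
          rw [hx₀] at this
          exact Or.inr (Or.inr (Finset.mem_singleton.mp this))
    · rintro (h | h | h)
      · rw [h]; exact hx2
      · rw [h]; exact hx1
      · rw [h]; exact hx₀S

theorem exists_R0 (a : A) (b : B) : ∃ x, c.R0 a b x := by
  obtain ⟨x₂, h2⟩ := c.exists_R2 a b
  obtain ⟨x₁, h1⟩ := c.exists_R1 a b
  obtain ⟨x₀, h0, _⟩ := c.exists_R0_supp a b h2 h1
  exact ⟨x₀, h0⟩

theorem R0_unique (a : A) (b : B) {x y : Ir} (hx : c.R0 a b x) (hy : c.R0 a b y) : x = y := by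
  obtain ⟨x₂, h2⟩ := c.exists_R2 a b
  obtain ⟨x₁, h1⟩ := c.exists_R1 a b
  obtain ⟨x₀, _, hS, _⟩ := c.exists_R0_supp a b h2 h1
  have key : ∀ z, c.R0 a b z → z = x₀ := by
    intro z hz
    have hzS : z ∈ univ.filter (fun x => c.m a b x ≠ 0) :=
      Finset.mem_filter.mpr ⟨Finset.mem_univ _, hz.1⟩
    rw [hS] at hzS
    simp only [Finset.mem_insert, Finset.mem_singleton] at hzS
    rcases hzS with h | h | h
    · exfalso; rw [h] at hz; exact hz.2.2 h2.2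
    · exfalso; rw [h] at hz; exact hz.2.1 h1.2
    · exact h
  rw [key x hx, key y hy]

/-- the three constituents of `X(a,b)` -/
theorem sum_three (a : A) (b : B) {x₂ x₁ x₀ : Ir} (h2 : c.R2 a b x₂) (h1 : c.R1 a b x₁)
    (h0 : c.R0 a b x₀) (F : Ir → ℤ) :
    ∑ x, c.m a b x * F x = c.m a b x₂ * F x₂ + c.m a b x₁ * F x₁ + c.m a b x₀ * F x₀ := by
  obtain ⟨y₀, hy0, hS, hne21, hne20, hne10⟩ := c.exists_R0_supp a b h2 h1
  have hy : y₀ = x₀ := c.R0_unique a b hy0 h0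
  rw [hy] at hS hne20 hne10
  have hsub : ∑ x, c.m a b x * F x = ∑ x ∈ univ.filter (fun x => c.m a b x ≠ 0), c.m a b x * F x := by
    rw [Finset.sum_filter]
    apply Finset.sum_congr rfl
    intro x _
    by_cases hx : c.m a b x ≠ 0
    · rw [if_pos hx]
    · rw [if_neg hx]; push Not at hx; rw [hx, zero_mul]
  rw [hsub, hS]
  rw [Finset.sum_insert, Finset.sum_insert, Finset.sum_singleton]
  · ring
  · simpa using hne10
  · simp only [Finset.mem_insert, Finset.mem_singleton, not_or]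
    exact ⟨hne21, hne20⟩

theorem mem_supp_iff (a : A) (b : B) {x₂ x₁ x₀ : Ir} (h2 : c.R2 a b x₂) (h1 : c.R1 a b x₁)
    (h0 : c.R0 a b x₀) (x : Ir) : c.m a b x ≠ 0 ↔ x = x₂ ∨ x = x₁ ∨ x = x₀ := by
  constructor
  · intro hx
    rcases c.trichotomy a b x hx with h | h | h
    · exact Or.inl (c.R2_unique a b h h2)
    · exact Or.inr (Or.inl (c.R1_unique a b h h1))
    · exact Or.inr (Or.inr (c.R0_unique a b h h0))
  · rintro (h | h | h)
    · rw [h]; exact h2.1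
    · rw [h]; exact h1.1
    · rw [h]; exact h0.1

end Cfg

end Cfsg.Agent.Helper79.CycTI
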